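import Cfsg.Agent.H0.QON.D0
import Cfsg.Agent.H0.QON.D1
import Cfsg.Agent.H0.QON.D2
import Cfsg.Agent.H0.QON.D3
import Cfsg.Agent.H0.QON.D4
import Cfsg.Agent.H0.QON.D5
import Cfsg.Agent.H0.MultM
import Cfsg.Agent.H0.MON.D
set_option maxRecDepth 100000
set_option Elab.async false
namespace H0.QON
open H0 BN 
noncomputable def n16 : Net := (Net.cons (nat_lit 65536) n16m0 (Net.cons (nat_lit 32768) n16m1 (Net.cons (nat_lit 16384) n16m2 (Net.cons (nat_lit 8192) n16m3 (Net.cons (nat_lit 4096) n16m4 (Net.cons (nat_lit 2048) n16m5 (Net.cons (nat_lit 1024) n16m6 (Net.cons (nat_lit 512) n16m7 (Net.cons (nat_lit 256) n16m8 (Net.cons (nat_lit 128) n16m9 (Net.cons (nat_lit 64) n16m10 (Net.cons (nat_lit 32) n16m11 (Net.cons (nat_lit 16) n16m12 (Net.cons (nat_lit 8) n16m13 (Net.cons (nat_lit 4) n16m14 (Net.cons (nat_lit 2) n16m15 (Net.cons (nat_lit 1) n16m16 (Net.cons (nat_lit 2) n16m17 (Net.cons (nat_lit 4) n16m18 (Net.cons (nat_lit 8) n16m19 (Net.cons (nat_lit 16) n16m20 (Net.cons (nat_lit 32) n16m21 (Net.cons (nat_lit 64) n16m22 (Net.cons (nat_lit 128) n16m23 (Net.cons (nat_lit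 256) n16m24 (Net.cons (nat_lit 512) n16m25 (Net.cons (nat_lit 1024) n16m26 (Net.cons (nat_lit 2048) n16m27 (Net.cons (nat_lit 4096) n16m28 (Net.cons (nat_lit 8192) n16m29 (Net.cons (nat_lit 16384) n16m30 (Net.cons (nat_lit 32768) n16m31 (Net.cons (nat_lit 65536) n16m32 Net.nil)))))))))))))))))))))))))))))))))
noncomputable def n17 : Net := (Net.cons (nat_lit 65536) n17m0 (Net.cons (nat_lit 32768) n17m1 (Net.cons (nat_lit 16384) n17m2 (Net.cons (nat_lit 8192) n17m3 (Net.cons (nat_lit 4096) n17m4 (Net.cons (nat_lit 2048) n17m5 (Net.cons (nat_lit 1024) n17m6 (Net.cons (nat_lit 512) n17m7 (Net.cons (nat_lit 256) n17m8 (Net.cons (nat_lit 128) n17m9 (Net.cons (nat_lit 64) n17m10 (Net.cons (nat_lit 32) n17m11 (Net.cons (nat_lit 16) n17m12 (Net.cons (nat_lit 8) n17m13 (Net.cons (nat_lit 4) n17m14 (Net.cons (nat_lit 2) n17m15 (Net.cons (nat_lit 1) n17m16 (Net.cons (nat_lit 2) n17m17 (Net.cons (nat_lit 4) n17m18 (Net.cons (nat_lit 8) n17m19 (Net.cons (nat_lit 16) n17m20 (Net.cons (nat_lit 32) n17m21 (Net.cons (nat_lit 64) n17m22 (Net.cons (nat_lit 128) n17m23 (Net.cons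 (nat_lit 256) n17m24 (Net.cons (nat_lit 512) n17m25 (Net.cons (nat_lit 1024) n17m26 (Net.cons (nat_lit 2048) n17m27 (Net.cons (nat_lit 4096) n17m28 (Net.cons (nat_lit 8192) n17m29 (Net.cons (nat_lit 16384) n17m30 (Net.cons (nat_lit 32768) n17m31 (Net.cons (nat_lit 65536) n17m32 Net.nil)))))))))))))))))))))))))))))))))
noncomputable def n18 : Net := (Net.cons (nat_lit 65536) n18m0 (Net.cons (nat_lit 32768) n18m1 (Net.cons (nat_lit 16384) n18m2 (Net.cons (nat_lit 8192) n18m3 (Net.cons (nat_lit 4096) n18m4 (Net.cons (nat_lit 2048) n18m5 (Net.cons (nat_lit 1024) n18m6 (Net.cons (nat_lit 512) n18m7 (Net.cons (nat_lit 256) n18m8 (Net.cons (nat_lit 128) n18m9 (Net.cons (nat_lit 64) n18m10 (Net.cons (nat_lit 32) n18m11 (Net.cons (nat_lit 16) n18m12 (Net.cons (nat_lit 8) n18m13 (Net.cons (nat_lit 4) n18m14 (Net.cons (nat_lit 2) n18m15 (Net.cons (nat_lit 1) n18m16 (Net.cons (nat_lit 2) n18m17 (Net.cons (nat_lit 4) n18m18 (Net.cons (nat_lit 8) n18m19 (Net.cons (nat_lit 16) n18m20 (Net.cons (nat_lit 32) n18m21 (Net.cons (nat_lit 64) n18m22 (Net.cons (nat_lit 128) n18m23 (Net.cons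 (nat_lit 256) n18m24 (Net.cons (nat_lit 512) n18m25 (Net.cons (nat_lit 1024) n18m26 (Net.cons (nat_lit 2048) n18m27 (Net.cons (nat_lit 4096) n18m28 (Net.cons (nat_lit 8192) n18m29 (Net.cons (nat_lit 16384) n18m30 (Net.cons (nat_lit 32768) n18m31 (Net.cons (nat_lit 65536) n18m32 Net.nil)))))))))))))))))))))))))))))))))
noncomputable def n19 : Net := (Net.cons (nat_lit 65536) n19m0 (Net.cons (nat_lit 32768) n19m1 (Net.cons (nat_lit 16384) n19m2 (Net.cons (nat_lit 8192) n19m3 (Net.cons (nat_lit 4096) n19m4 (Net.cons (nat_lit 2048) n19m5 (Net.cons (nat_lit 1024) n19m6 (Net.cons (nat_lit 512) n19m7 (Net.cons (nat_lit 256) n19m8 (Net.cons (nat_lit 128) n19m9 (Net.cons (nat_lit 64) n19m10 (Net.cons (nat_lit 32) n19m11 (Net.cons (nat_lit 16) n19m12 (Net.cons (nat_lit 8) n19m13 (Net.cons (nat_lit 4) n19m14 (Net.cons (nat_lit 2) n19m15 (Net.cons (nat_lit 1) n19m16 (Net.cons (nat_lit 2) n19m17 (Net.cons (nat_lit 4) n19m18 (Net.cons (nat_lit 8) n19m19 (Net.cons (nat_lit 16) n19m20 (Net.cons (nat_lit 32) n19m21 (Net.cons (nat_lit 64) n19m22 (Net.cons (nat_lit 128) n19m23 (Net.cons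 (nat_lit 256) n19m24 (Net.cons (nat_lit 512) n19m25 (Net.cons (nat_lit 1024) n19m26 (Net.cons (nat_lit 2048) n19m27 (Net.cons (nat_lit 4096) n19m28 (Net.cons (nat_lit 8192) n19m29 (Net.cons (nat_lit 16384) n19m30 (Net.cons (nat_lit 32768) n19m31 (Net.cons (nat_lit 65536) n19m32 Net.nil)))))))))))))))))))))))))))))))))
noncomputable def n20 : Net := (Net.cons (nat_lit 65536) n20m0 (Net.cons (nat_lit 32768) n20m1 (Net.cons (nat_lit 16384) n20m2 (Net.cons (nat_lit 8192) n20m3 (Net.cons (nat_lit 4096) n20m4 (Net.cons (nat_lit 2048) n20m5 (Net.cons (nat_lit 1024) n20m6 (Net.cons (nat_lit 512) n20m7 (Net.cons (nat_lit 256) n20m8 (Net.cons (nat_lit 128) n20m9 (Net.cons (nat_lit 64) n20m10 (Net.cons (nat_lit 32) n20m11 (Net.cons (nat_lit 16) n20m12 (Net.cons (nat_lit 8) n20m13 (Net.cons (nat_lit 4) n20m14 (Net.cons (nat_lit 2) n20m15 (Net.cons (nat_lit 1) n20m16 (Net.cons (nat_lit 2) n20m17 (Net.cons (nat_lit 4) n20m18 (Net.cons (nat_lit 8) n20m19 (Net.cons (nat_lit 16) n20m20 (Net.cons (nat_lit 32) n20m21 (Net.cons (nat_lit 64) n20m22 (Net.cons (nat_lit 128) n20m23 (Net.cons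 (nat_lit 256) n20m24 (Net.cons (nat_lit 512) n20m25 (Net.cons (nat_lit 1024) n20m26 (Net.cons (nat_lit 2048) n20m27 (Net.cons (nat_lit 4096) n20m28 (Net.cons (nat_lit 8192) n20m29 (Net.cons (nat_lit 16384) n20m30 (Net.cons (nat_lit 32768) n20m31 (Net.cons (nat_lit 65536) n20m32 Net.nil)))))))))))))))))))))))))))))))))
noncomputable def n21 : Net := (Net.cons (nat_lit 65536) n21m0 (Net.cons (nat_lit 32768) n21m1 (Net.cons (nat_lit 16384) n21m2 (Net.cons (nat_lit 8192) n21m3 (Net.cons (nat_lit 4096) n21m4 (Net.cons (nat_lit 2048) n21m5 (Net.cons (nat_lit 1024) n21m6 (Net.cons (nat_lit 512) n21m7 (Net.cons (nat_lit 256) n21m8 (Net.cons (nat_lit 128) n21m9 (Net.cons (nat_lit 64) n21m10 (Net.cons (nat_lit 32) n21m11 (Net.cons (nat_lit 16) n21m12 (Net.cons (nat_lit 8) n21m13 (Net.cons (nat_lit 4) n21m14 (Net.cons (nat_lit 2) n21m15 (Net.cons (nat_lit 1) n21m16 (Net.cons (nat_lit 2) n21m17 (Net.cons (nat_lit 4) n21m18 (Net.cons (nat_lit 8) n21m19 (Net.cons (nat_lit 16) n21m20 (Net.cons (nat_lit 32) n21m21 (Net.cons (nat_lit 64) n21m22 (Net.cons (nat_lit 128) n21m23 (Net.cons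 (nat_lit 256) n21m24 (Net.cons (nat_lit 512) n21m25 (Net.cons (nat_lit 1024) n21m26 (Net.cons (nat_lit 2048) n21m27 (Net.cons (nat_lit 4096) n21m28 (Net.cons (nat_lit 8192) n21m29 (Net.cons (nat_lit 16384) n21m30 (Net.cons (nat_lit 32768) n21m31 (Net.cons (nat_lit 65536) n21m32 Net.nil)))))))))))))))))))))))))))))))))
noncomputable def n22 : Net := (Net.cons (nat_lit 65536) n22m0 (Net.cons (nat_lit 32768) n22m1 (Net.cons (nat_lit 16384) n22m2 (Net.cons (nat_lit 8192) n22m3 (Net.cons (nat_lit 4096) n22m4 (Net.cons (nat_lit 2048) n22m5 (Net.cons (nat_lit 1024) n22m6 (Net.cons (nat_lit 512) n22m7 (Net.cons (nat_lit 256) n22m8 (Net.cons (nat_lit 128) n22m9 (Net.cons (nat_lit 64) n22m10 (Net.cons (nat_lit 32) n22m11 (Net.cons (nat_lit 16) n22m12 (Net.cons (nat_lit 8) n22m13 (Net.cons (nat_lit 4) n22m14 (Net.cons (nat_lit 2) n22m15 (Net.cons (nat_lit 1) n22m16 (Net.cons (nat_lit 2) n22m17 (Net.cons (nat_lit 4) n22m18 (Net.cons (nat_lit 8) n22m19 (Net.cons (nat_lit 16) n22m20 (Net.cons (nat_lit 32) n22m21 (Net.cons (nat_lit 64) n22m22 (Net.cons (nat_lit 128) n22m23 (Net.cons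 (nat_lit 256) n22m24 (Net.cons (nat_lit 512) n22m25 (Net.cons (nat_lit 1024) n22m26 (Net.cons (nat_lit 2048) n22m27 (Net.cons (nat_lit 4096) n22m28 (Net.cons (nat_lit 8192) n22m29 (Net.cons (nat_lit 16384) n22m30 (Net.cons (nat_lit 32768) n22m31 (Net.cons (nat_lit 65536) n22m32 Net.nil)))))))))))))))))))))))))))))))))
noncomputable def n23 : Net := (Net.cons (nat_lit 65536) n23m0 (Net.cons (nat_lit 32768) n23m1 (Net.cons (nat_lit 16384) n23m2 (Net.cons (nat_lit 8192) n23m3 (Net.cons (nat_lit 4096) n23m4 (Net.cons (nat_lit 2048) n23m5 (Net.cons (nat_lit 1024) n23m6 (Net.cons (nat_lit 512) n23m7 (Net.cons (nat_lit 256) n23m8 (Net.cons (nat_lit 128) n23m9 (Net.cons (nat_lit 64) n23m10 (Net.cons (nat_lit 32) n23m11 (Net.cons (nat_lit 16) n23m12 (Net.cons (nat_lit 8) n23m13 (Net.cons (nat_lit 4) n23m14 (Net.cons (nat_lit 2) n23m15 (Net.cons (nat_lit 1) n23m16 (Net.cons (nat_lit 2) n23m17 (Net.cons (nat_lit 4) n23m18 (Net.cons (nat_lit 8) n23m19 (Net.cons (nat_lit 16) n23m20 (Net.cons (nat_lit 32) n23m21 (Net.cons (nat_lit 64) n23m22 (Net.cons (nat_lit 128) n23m23 (Net.cons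 (nat_lit 256) n23m24 (Net.cons (nat_lit 512) n23m25 (Net.cons (nat_lit 1024) n23m26 (Net.cons (nat_lit 2048) n23m27 (Net.cons (nat_lit 4096) n23m28 (Net.cons (nat_lit 8192) n23m29 (Net.cons (nat_lit 16384) n23m30 (Net.cons (nat_lit 32768) n23m31 (Net.cons (nat_lit 65536) n23m32 Net.nil)))))))))))))))))))))))))))))))))
noncomputable def n24 : Net := (Net.cons (nat_lit 65536) n24m0 (Net.cons (nat_lit 32768) n24m1 (Net.cons (nat_lit 16384) n24m2 (Net.cons (nat_lit 8192) n24m3 (Net.cons (nat_lit 4096) n24m4 (Net.cons (nat_lit 2048) n24m5 (Net.cons (nat_lit 1024) n24m6 (Net.cons (nat_lit 512) n24m7 (Net.cons (nat_lit 256) n24m8 (Net.cons (nat_lit 128) n24m9 (Net.cons (nat_lit 64) n24m10 (Net.cons (nat_lit 32) n24m11 (Net.cons (nat_lit 16) n24m12 (Net.cons (nat_lit 8) n24m13 (Net.cons (nat_lit 4) n24m14 (Net.cons (nat_lit 2) n24m15 (Net.cons (nat_lit 1) n24m16 (Net.cons (nat_lit 2) n24m17 (Net.cons (nat_lit 4) n24m18 (Net.cons (nat_lit 8) n24m19 (Net.cons (nat_lit 16) n24m20 (Net.cons (nat_lit 32) n24m21 (Net.cons (nat_lit 64) n24m22 (Net.cons (nat_lit 128) n24m23 (Net.cons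 (nat_lit 256) n24m24 (Net.cons (nat_lit 512) n24m25 (Net.cons (nat_lit 1024) n24m26 (Net.cons (nat_lit 2048) n24m27 (Net.cons (nat_lit 4096) n24m28 (Net.cons (nat_lit 8192) n24m29 (Net.cons (nat_lit 16384) n24m30 (Net.cons (nat_lit 32768) n24m31 (Net.cons (nat_lit 65536) n24m32 Net.nil)))))))))))))))))))))))))))))))))
noncomputable def n25 : Net := (Net.cons (nat_lit 65536) n25m0 (Net.cons (nat_lit 32768) n25m1 (Net.cons (nat_lit 16384) n25m2 (Net.cons (nat_lit 8192) n25m3 (Net.cons (nat_lit 4096) n25m4 (Net.cons (nat_lit 2048) n25m5 (Net.cons (nat_lit 1024) n25m6 (Net.cons (nat_lit 512) n25m7 (Net.cons (nat_lit 256) n25m8 (Net.cons (nat_lit 128) n25m9 (Net.cons (nat_lit 64) n25m10 (Net.cons (nat_lit 32) n25m11 (Net.cons (nat_lit 16) n25m12 (Net.cons (nat_lit 8) n25m13 (Net.cons (nat_lit 4) n25m14 (Net.cons (nat_lit 2) n25m15 (Net.cons (nat_lit 1) n25m16 (Net.cons (nat_lit 2) n25m17 (Net.cons (nat_lit 4) n25m18 (Net.cons (nat_lit 8) n25m19 (Net.cons (nat_lit 16) n25m20 (Net.cons (nat_lit 32) n25m21 (Net.cons (nat_lit 64) n25m22 (Net.cons (nat_lit 128) n25m23 (Net.cons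 (nat_lit 256) n25m24 (Net.cons (nat_lit 512) n25m25 (Net.cons (nat_lit 1024) n25m26 (Net.cons (nat_lit 2048) n25m27 (Net.cons (nat_lit 4096) n25m28 (Net.cons (nat_lit 8192) n25m29 (Net.cons (nat_lit 16384) n25m30 (Net.cons (nat_lit 32768) n25m31 (Net.cons (nat_lit 65536) n25m32 Net.nil)))))))))))))))))))))))))))))))))
noncomputable def n26 : Net := (Net.cons (nat_lit 65536) n26m0 (Net.cons (nat_lit 32768) n26m1 (Net.cons (nat_lit 16384) n26m2 (Net.cons (nat_lit 8192) n26m3 (Net.cons (nat_lit 4096) n26m4 (Net.cons (nat_lit 2048) n26m5 (Net.cons (nat_lit 1024) n26m6 (Net.cons (nat_lit 512) n26m7 (Net.cons (nat_lit 256) n26m8 (Net.cons (nat_lit 128) n26m9 (Net.cons (nat_lit 64) n26m10 (Net.cons (nat_lit 32) n26m11 (Net.cons (nat_lit 16) n26m12 (Net.cons (nat_lit 8) n26m13 (Net.cons (nat_lit 4) n26m14 (Net.cons (nat_lit 2) n26m15 (Net.cons (nat_lit 1) n26m16 (Net.cons (nat_lit 2) n26m17 (Net.cons (nat_lit 4) n26m18 (Net.cons (nat_lit 8) n26m19 (Net.cons (nat_lit 16) n26m20 (Net.cons (nat_lit 32) n26m21 (Net.cons (nat_lit 64) n26m22 (Net.cons (nat_lit 128) n26m23 (Net.cons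 (nat_lit 256) n26m24 (Net.cons (nat_lit 512) n26m25 (Net.cons (nat_lit 1024) n26m26 (Net.cons (nat_lit 2048) n26m27 (Net.cons (nat_lit 4096) n26m28 (Net.cons (nat_lit 8192) n26m29 (Net.cons (nat_lit 16384) n26m30 (Net.cons (nat_lit 32768) n26m31 (Net.cons (nat_lit 65536) n26m32 Net.nil)))))))))))))))))))))))))))))))))
noncomputable def n27 : Net := (Net.cons (nat_lit 65536) n27m0 (Net.cons (nat_lit 32768) n27m1 (Net.cons (nat_lit 16384) n27m2 (Net.cons (nat_lit 8192) n27m3 (Net.cons (nat_lit 4096) n27m4 (Net.cons (nat_lit 2048) n27m5 (Net.cons (nat_lit 1024) n27m6 (Net.cons (nat_lit 512) n27m7 (Net.cons (nat_lit 256) n27m8 (Net.cons (nat_lit 128) n27m9 (Net.cons (nat_lit 64) n27m10 (Net.cons (nat_lit 32) n27m11 (Net.cons (nat_lit 16) n27m12 (Net.cons (nat_lit 8) n27m13 (Net.cons (nat_lit 4) n27m14 (Net.cons (nat_lit 2) n27m15 (Net.cons (nat_lit 1) n27m16 (Net.cons (nat_lit 2) n27m17 (Net.cons (nat_lit 4) n27m18 (Net.cons (nat_lit 8) n27m19 (Net.cons (nat_lit 16) n27m20 (Net.cons (nat_lit 32) n27m21 (Net.cons (nat_lit 64) n27m22 (Net.cons (nat_lit 128) n27m23 (Net.cons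 (nat_lit 256) n27m24 (Net.cons (nat_lit 512) n27m25 (Net.cons (nat_lit 1024) n27m26 (Net.cons (nat_lit 2048) n27m27 (Net.cons (nat_lit 4096) n27m28 (Net.cons (nat_lit 8192) n27m29 (Net.cons (nat_lit 16384) n27m30 (Net.cons (nat_lit 32768) n27m31 (Net.cons (nat_lit 65536) n27m32 Net.nil)))))))))))))))))))))))))))))))))
noncomputable def n28 : Net := (Net.cons (nat_lit 65536) n28m0 (Net.cons (nat_lit 32768) n28m1 (Net.cons (nat_lit 16384) n28m2 (Net.cons (nat_lit 8192) n28m3 (Net.cons (nat_lit 4096) n28m4 (Net.cons (nat_lit 2048) n28m5 (Net.cons (nat_lit 1024) n28m6 (Net.cons (nat_lit 512) n28m7 (Net.cons (nat_lit 256) n28m8 (Net.cons (nat_lit 128) n28m9 (Net.cons (nat_lit 64) n28m10 (Net.cons (nat_lit 32) n28m11 (Net.cons (nat_lit 16) n28m12 (Net.cons (nat_lit 8) n28m13 (Net.cons (nat_lit 4) n28m14 (Net.cons (nat_lit 2) n28m15 (Net.cons (nat_lit 1) n28m16 (Net.cons (nat_lit 2) n28m17 (Net.cons (nat_lit 4) n28m18 (Net.cons (nat_lit 8) n28m19 (Net.cons (nat_lit 16) n28m20 (Net.cons (nat_lit 32) n28m21 (Net.cons (nat_lit 64) n28m22 (Net.cons (nat_lit 128) n28m23 (Net.cons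 (nat_lit 256) n28m24 (Net.cons (nat_lit 512) n28m25 (Net.cons (nat_lit 1024) n28m26 (Net.cons (nat_lit 2048) n28m27 (Net.cons (nat_lit 4096) n28m28 (Net.cons (nat_lit 8192) n28m29 (Net.cons (nat_lit 16384) n28m30 (Net.cons (nat_lit 32768) n28m31 (Net.cons (nat_lit 65536) n28m32 Net.nil)))))))))))))))))))))))))))))))))
noncomputable def n29 : Net := (Net.cons (nat_lit 65536) n29m0 (Net.cons (nat_lit 32768) n29m1 (Net.cons (nat_lit 16384) n29m2 (Net.cons (nat_lit 8192) n29m3 (Net.cons (nat_lit 4096) n29m4 (Net.cons (nat_lit 2048) n29m5 (Net.cons (nat_lit 1024) n29m6 (Net.cons (nat_lit 512) n29m7 (Net.cons (nat_lit 256) n29m8 (Net.cons (nat_lit 128) n29m9 (Net.cons (nat_lit 64) n29m10 (Net.cons (nat_lit 32) n29m11 (Net.cons (nat_lit 16) n29m12 (Net.cons (nat_lit 8) n29m13 (Net.cons (nat_lit 4) n29m14 (Net.cons (nat_lit 2) n29m15 (Net.cons (nat_lit 1) n29m16 (Net.cons (nat_lit 2) n29m17 (Net.cons (nat_lit 4) n29m18 (Net.cons (nat_lit 8) n29m19 (Net.cons (nat_lit 16) n29m20 (Net.cons (nat_lit 32) n29m21 (Net.cons (nat_lit 64) n29m22 (Net.cons (nat_lit 128) n29m23 (Net.cons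 (nat_lit 256) n29m24 (Net.cons (nat_lit 512) n29m25 (Net.cons (nat_lit 1024) n29m26 (Net.cons (nat_lit 2048) n29m27 (Net.cons (nat_lit 4096) n29m28 (Net.cons (nat_lit 8192) n29m29 (Net.cons (nat_lit 16384) n29m30 (Net.cons (nat_lit 32768) n29m31 (Net.cons (nat_lit 65536) n29m32 Net.nil)))))))))))))))))))))))))))))))))
noncomputable def n30 : Net := (Net.cons (nat_lit 65536) n30m0 (Net.cons (nat_lit 32768) n30m1 (Net.cons (nat_lit 16384) n30m2 (Net.cons (nat_lit 8192) n30m3 (Net.cons (nat_lit 4096) n30m4 (Net.cons (nat_lit 2048) n30m5 (Net.cons (nat_lit 1024) n30m6 (Net.cons (nat_lit 512) n30m7 (Net.cons (nat_lit 256) n30m8 (Net.cons (nat_lit 128) n30m9 (Net.cons (nat_lit 64) n30m10 (Net.cons (nat_lit 32) n30m11 (Net.cons (nat_lit 16) n30m12 (Net.cons (nat_lit 8) n30m13 (Net.cons (nat_lit 4) n30m14 (Net.cons (nat_lit 2) n30m15 (Net.cons (nat_lit 1) n30m16 (Net.cons (nat_lit 2) n30m17 (Net.cons (nat_lit 4) n30m18 (Net.cons (nat_lit 8) n30m19 (Net.cons (nat_lit 16) n30m20 (Net.cons (nat_lit 32) n30m21 (Net.cons (nat_lit 64) n30m22 (Net.cons (nat_lit 128) n30m23 (Net.cons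 (nat_lit 256) n30m24 (Net.cons (nat_lit 512) n30m25 (Net.cons (nat_lit 1024) n30m26 (Net.cons (nat_lit 2048) n30m27 (Net.cons (nat_lit 4096) n30m28 (Net.cons (nat_lit 8192) n30m29 (Net.cons (nat_lit 16384) n30m30 (Net.cons (nat_lit 32768) n30m31 (Net.cons (nat_lit 65536) n30m32 Net.nil)))))))))))))))))))))))))))))))))
noncomputable def n31 : Net := (Net.cons (nat_lit 65536) n31m0 (Net.cons (nat_lit 32768) n31m1 (Net.cons (nat_lit 16384) n31m2 (Net.cons (nat_lit 8192) n31m3 (Net.cons (nat_lit 4096) n31m4 (Net.cons (nat_lit 2048) n31m5 (Net.cons (nat_lit 1024) n31m6 (Net.cons (nat_lit 512) n31m7 (Net.cons (nat_lit 256) n31m8 (Net.cons (nat_lit 128) n31m9 (Net.cons (nat_lit 64) n31m10 (Net.cons (nat_lit 32) n31m11 (Net.cons (nat_lit 16) n31m12 (Net.cons (nat_lit 8) n31m13 (Net.cons (nat_lit 4) n31m14 (Net.cons (nat_lit 2) n31m15 (Net.cons (nat_lit 1) n31m16 (Net.cons (nat_lit 2) n31m17 (Net.cons (nat_lit 4) n31m18 (Net.cons (nat_lit 8) n31m19 (Net.cons (nat_lit 16) n31m20 (Net.cons (nat_lit 32) n31m21 (Net.cons (nat_lit 64) n31m22 (Net.cons (nat_lit 128) n31m23 (Net.cons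 (nat_lit 256) n31m24 (Net.cons (nat_lit 512) n31m25 (Net.cons (nat_lit 1024) n31m26 (Net.cons (nat_lit 2048) n31m27 (Net.cons (nat_lit 4096) n31m28 (Net.cons (nat_lit 8192) n31m29 (Net.cons (nat_lit 16384) n31m30 (Net.cons (nat_lit 32768) n31m31 (Net.cons (nat_lit 65536) n31m32 Net.nil)))))))))))))))))))))))))))))))))
noncomputable def n32 : Net := (Net.cons (nat_lit 65536) n32m0 (Net.cons (nat_lit 32768) n32m1 (Net.cons (nat_lit 16384) n32m2 (Net.cons (nat_lit 8192) n32m3 (Net.cons (nat_lit 4096) n32m4 (Net.cons (nat_lit 2048) n32m5 (Net.cons (nat_lit 1024) n32m6 (Net.cons (nat_lit 512) n32m7 (Net.cons (nat_lit 256) n32m8 (Net.cons (nat_lit 128) n32m9 (Net.cons (nat_lit 64) n32m10 (Net.cons (nat_lit 32) n32m11 (Net.cons (nat_lit 16) n32m12 (Net.cons (nat_lit 8) n32m13 (Net.cons (nat_lit 4) n32m14 (Net.cons (nat_lit 2) n32m15 (Net.cons (nat_lit 1) n32m16 (Net.cons (nat_lit 2) n32m17 (Net.cons (nat_lit 4) n32m18 (Net.cons (nat_lit 8) n32m19 (Net.cons (nat_lit 16) n32m20 (Net.cons (nat_lit 32) n32m21 (Net.cons (nat_lit 64) n32m22 (Net.cons (nat_lit 128) n32m23 (Net.cons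 (nat_lit 256) n32m24 (Net.cons (nat_lit 512) n32m25 (Net.cons (nat_lit 1024) n32m26 (Net.cons (nat_lit 2048) n32m27 (Net.cons (nat_lit 4096) n32m28 (Net.cons (nat_lit 8192) n32m29 (Net.cons (nat_lit 16384) n32m30 (Net.cons (nat_lit 32768) n32m31 (Net.cons (nat_lit 65536) n32m32 Net.nil)))))))))))))))))))))))))))))))))
noncomputable def n33 : Net := (Net.cons (nat_lit 65536) n33m0 (Net.cons (nat_lit 32768) n33m1 (Net.cons (nat_lit 16384) n33m2 (Net.cons (nat_lit 8192) n33m3 (Net.cons (nat_lit 4096) n33m4 (Net.cons (nat_lit 2048) n33m5 (Net.cons (nat_lit 1024) n33m6 (Net.cons (nat_lit 512) n33m7 (Net.cons (nat_lit 256) n33m8 (Net.cons (nat_lit 128) n33m9 (Net.cons (nat_lit 64) n33m10 (Net.cons (nat_lit 32) n33m11 (Net.cons (nat_lit 16) n33m12 (Net.cons (nat_lit 8) n33m13 (Net.cons (nat_lit 4) n33m14 (Net.cons (nat_lit 2) n33m15 (Net.cons (nat_lit 1) n33m16 (Net.cons (nat_lit 2) n33m17 (Net.cons (nat_lit 4) n33m18 (Net.cons (nat_lit 8) n33m19 (Net.cons (nat_lit 16) n33m20 (Net.cons (nat_lit 32) n33m21 (Net.cons (nat_lit 64) n33m22 (Net.cons (nat_lit 128) n33m23 (Net.cons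 (nat_lit 256) n33m24 (Net.cons (nat_lit 512) n33m25 (Net.cons (nat_lit 1024) n33m26 (Net.cons (nat_lit 2048) n33m27 (Net.cons (nat_lit 4096) n33m28 (Net.cons (nat_lit 8192) n33m29 (Net.cons (nat_lit 16384) n33m30 (Net.cons (nat_lit 32768) n33m31 (Net.cons (nat_lit 65536) n33m32 Net.nil)))))))))))))))))))))))))))))))))
noncomputable def n34 : Net := (Net.cons (nat_lit 65536) n34m0 (Net.cons (nat_lit 32768) n34m1 (Net.cons (nat_lit 16384) n34m2 (Net.cons (nat_lit 8192) n34m3 (Net.cons (nat_lit 4096) n34m4 (Net.cons (nat_lit 2048) n34m5 (Net.cons (nat_lit 1024) n34m6 (Net.cons (nat_lit 512) n34m7 (Net.cons (nat_lit 256) n34m8 (Net.cons (nat_lit 128) n34m9 (Net.cons (nat_lit 64) n34m10 (Net.cons (nat_lit 32) n34m11 (Net.cons (nat_lit 16) n34m12 (Net.cons (nat_lit 8) n34m13 (Net.cons (nat_lit 4) n34m14 (Net.cons (nat_lit 2) n34m15 (Net.cons (nat_lit 1) n34m16 (Net.cons (nat_lit 2) n34m17 (Net.cons (nat_lit 4) n34m18 (Net.cons (nat_lit 8) n34m19 (Net.cons (nat_lit 16) n34m20 (Net.cons (nat_lit 32) n34m21 (Net.cons (nat_lit 64) n34m22 (Net.cons (nat_lit 128) n34m23 (Net.cons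 (nat_lit 256) n34m24 (Net.cons (nat_lit 512) n34m25 (Net.cons (nat_lit 1024) n34m26 (Net.cons (nat_lit 2048) n34m27 (Net.cons (nat_lit 4096) n34m28 (Net.cons (nat_lit 8192) n34m29 (Net.cons (nat_lit 16384) n34m30 (Net.cons (nat_lit 32768) n34m31 (Net.cons (nat_lit 65536) n34m32 Net.nil)))))))))))))))))))))))))))))))))
noncomputable def n35 : Net := (Net.cons (nat_lit 65536) n35m0 (Net.cons (nat_lit 32768) n35m1 (Net.cons (nat_lit 16384) n35m2 (Net.cons (nat_lit 8192) n35m3 (Net.cons (nat_lit 4096) n35m4 (Net.cons (nat_lit 2048) n35m5 (Net.cons (nat_lit 1024) n35m6 (Net.cons (nat_lit 512) n35m7 (Net.cons (nat_lit 256) n35m8 (Net.cons (nat_lit 128) n35m9 (Net.cons (nat_lit 64) n35m10 (Net.cons (nat_lit 32) n35m11 (Net.cons (nat_lit 16) n35m12 (Net.cons (nat_lit 8) n35m13 (Net.cons (nat_lit 4) n35m14 (Net.cons (nat_lit 2) n35m15 (Net.cons (nat_lit 1) n35m16 (Net.cons (nat_lit 2) n35m17 (Net.cons (nat_lit 4) n35m18 (Net.cons (nat_lit 8) n35m19 (Net.cons (nat_lit 16) n35m20 (Net.cons (nat_lit 32) n35m21 (Net.cons (nat_lit 64) n35m22 (Net.cons (nat_lit 128) n35m23 (Net.cons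 (nat_lit 256) n35m24 (Net.cons (nat_lit 512) n35m25 (Net.cons (nat_lit 1024) n35m26 (Net.cons (nat_lit 2048) n35m27 (Net.cons (nat_lit 4096) n35m28 (Net.cons (nat_lit 8192) n35m29 (Net.cons (nat_lit 16384) n35m30 (Net.cons (nat_lit 32768) n35m31 (Net.cons (nat_lit 65536) n35m32 Net.nil)))))))))))))))))))))))))))))))))
noncomputable def n36 : Net := (Net.cons (nat_lit 65536) n36m0 (Net.cons (nat_lit 32768) n36m1 (Net.cons (nat_lit 16384) n36m2 (Net.cons (nat_lit 8192) n36m3 (Net.cons (nat_lit 4096) n36m4 (Net.cons (nat_lit 2048) n36m5 (Net.cons (nat_lit 1024) n36m6 (Net.cons (nat_lit 512) n36m7 (Net.cons (nat_lit 256) n36m8 (Net.cons (nat_lit 128) n36m9 (Net.cons (nat_lit 64) n36m10 (Net.cons (nat_lit 32) n36m11 (Net.cons (nat_lit 16) n36m12 (Net.cons (nat_lit 8) n36m13 (Net.cons (nat_lit 4) n36m14 (Net.cons (nat_lit 2) n36m15 (Net.cons (nat_lit 1) n36m16 (Net.cons (nat_lit 2) n36m17 (Net.cons (nat_lit 4) n36m18 (Net.cons (nat_lit 8) n36m19 (Net.cons (nat_lit 16) n36m20 (Net.cons (nat_lit 32) n36m21 (Net.cons (nat_lit 64) n36m22 (Net.cons (nat_lit 128) n36m23 (Net.cons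 (nat_lit 256) n36m24 (Net.cons (nat_lit 512) n36m25 (Net.cons (nat_lit 1024) n36m26 (Net.cons (nat_lit 2048) n36m27 (Net.cons (nat_lit 4096) n36m28 (Net.cons (nat_lit 8192) n36m29 (Net.cons (nat_lit 16384) n36m30 (Net.cons (nat_lit 32768) n36m31 (Net.cons (nat_lit 65536) n36m32 Net.nil)))))))))))))))))))))))))))))))))
noncomputable def n37 : Net := (Net.cons (nat_lit 65536) n37m0 (Net.cons (nat_lit 32768) n37m1 (Net.cons (nat_lit 16384) n37m2 (Net.cons (nat_lit 8192) n37m3 (Net.cons (nat_lit 4096) n37m4 (Net.cons (nat_lit 2048) n37m5 (Net.cons (nat_lit 1024) n37m6 (Net.cons (nat_lit 512) n37m7 (Net.cons (nat_lit 256) n37m8 (Net.cons (nat_lit 128) n37m9 (Net.cons (nat_lit 64) n37m10 (Net.cons (nat_lit 32) n37m11 (Net.cons (nat_lit 16) n37m12 (Net.cons (nat_lit 8) n37m13 (Net.cons (nat_lit 4) n37m14 (Net.cons (nat_lit 2) n37m15 (Net.cons (nat_lit 1) n37m16 (Net.cons (nat_lit 2) n37m17 (Net.cons (nat_lit 4) n37m18 (Net.cons (nat_lit 8) n37m19 (Net.cons (nat_lit 16) n37m20 (Net.cons (nat_lit 32) n37m21 (Net.cons (nat_lit 64) n37m22 (Net.cons (nat_lit 128) n37m23 (Net.cons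 (nat_lit 256) n37m24 (Net.cons (nat_lit 512) n37m25 (Net.cons (nat_lit 1024) n37m26 (Net.cons (nat_lit 2048) n37m27 (Net.cons (nat_lit 4096) n37m28 (Net.cons (nat_lit 8192) n37m29 (Net.cons (nat_lit 16384) n37m30 (Net.cons (nat_lit 32768) n37m31 (Net.cons (nat_lit 65536) n37m32 Net.nil)))))))))))))))))))))))))))))))))
noncomputable def nl2 : List Net := [n16, n17, n18, n19, n20, n21, n22, n23, n24, n25, n26, n27, n28, n29, n30, n31, n32, n33, n34, n35, n36, n37]
theorem nl2_ok : allL (Net.ok (nat_lit 131072)) nl2 = true := by decide +kernel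
noncomputable def nl : List Net := [H0.MON.n0, H0.MON.n1, H0.MON.n2, H0.MON.n3, H0.MON.n4, H0.MON.n5, H0.MON.n6, H0.MON.n7, H0.MON.n8, H0.MON.n9, H0.MON.n10, H0.MON.n11, H0.MON.n12, H0.MON.n13, H0.MON.n14, H0.MON.n15, n16, n17, n18, n19, n20, n21, n22, n23, n24, n25, n26, n27, n28, n29, n30, n31, n32, n33, n34, n35, n36, n37]
theorem nl_ok : allL (Net.ok (nat_lit 131072)) nl = true := allL_append H0.MON.nl_ok nl2_ok
noncomputable def R : Rep := mkRep (nat_lit 17) (nat_lit 131072) nl (by decide +kernel) nl_ok
def defs : List (List ℕ) := [[9, 9, 9, 8, 8, 9, 8, 8, 9, 9, 8, 9, 9, 9, 8, 8, 8, 8, 8, 11, 11, 10, 10, 10, 10, 11, 11, 11, 11, 11, 10, 11, 11, 10, 12, 14, 14, 14, 14, 12], [8, 9, 8, 8, 9, 9, 8, 9, 9, 8, 9, 8, 9, 9, 9, 10, 11, 10, 11, 10, 10, 11, 11, 10, 11, 11, 10, 12, 13], [8, 8, 8, 8, 8, 8, 9, 8, 9, 9, 9, 9, 8, 9, 9, 8, 8, 11, 10, 11, 11, 10, 11, 11, 10, 10, 11, 11, 10, 11, 11, 13, 12, 13], [17, 17, 17, 17, 17, 17, 17, 16, 16, 16, 16, 16, 16, 16, 17, 16], [18, 18, 18, 16, 16, 16, 16, 16, 16, 16, 18, 16], [19, 19, 19, 19, 19, 19, 19, 16, 16, 16, 16, 16, 16,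 16, 19, 16], [19, 19, 19, 19, 19, 19, 19, 17, 17, 17, 17, 17, 17, 17, 19, 17], [21, 16, 16, 16, 16, 16, 16, 16, 21, 16], [23, 17, 17, 17, 17, 17, 17, 17, 23, 17], [8, 8, 9, 9, 9, 8, 8, 8, 9, 8, 8, 8, 9, 9, 9, 11, 10, 10, 11, 11, 10, 10, 11, 10, 11, 11, 11, 11, 10, 12, 14, 14, 14], [8, 9, 8, 8, 9, 9, 8, 8, 9, 8, 8, 8, 9, 8, 9, 9, 9, 11, 10, 10, 11, 10, 10, 11, 11, 10, 12, 14, 14], [9, 9, 9, 8, 8, 9, 9, 8, 9, 8, 9, 8, 8, 9, 9, 9, 8, 11, 11, 10, 10, 11, 10, 11, 11, 11, 11, 11, 10, 10, 11, 13, 14, 14, 14, 12], [9, 8, 9, 8, 8, 9, 9, 8, 9, 8, 9, 8, 9, 9, 8, 8, 8, 10, 11, 10, 10, 10, 10, 11, 10, 10, 11, 10, 11, 10, 10, 10, 10, 14, 14, 13, 12, 13, 12], [8, 8, 9, 8, 8, 8, 8, 9, 9, 8, 9, 9, 8, 9, 8, 8, 9, 8, 8, 10, 10, 11, 11, 10, 10, 10, 11, 11, 11, 11, 10, 11, 13, 14, 13, 12], [8, 9, 8, 8, 9, 8, 9, 8, 8, 8, 9, 9, 8, 8, 9, 8, 9, 9, 11, 10, 11, 10, 10, 11, 10, 10, 11, 10, 11, 10, 10, 11, 11, 10, 10, 10, 14, 14, 14, 13, 12, 13], [8, 9, 8, 9, 8, 8, 8, 8, 8, 9, 8, 8, 9, 8, 8, 8, 8, 8, 11, 11, 10, 10, 11, 11, 11, 10, 10, 10, 10, 11, 10, 10, 12, 14, 14, 14, 14, 12], [8, 9, 8,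 9, 9, 8, 8, 9, 8, 8, 9, 9, 8, 8, 10, 11, 10, 10, 11, 10, 11, 10, 11, 10, 10, 10, 11, 11, 10, 10, 10, 14, 14, 14, 14, 12], [9, 8, 9, 8, 8, 8, 9, 9, 8, 9, 9, 9, 9, 11, 11, 10, 10, 10, 11, 10, 11, 10, 10, 10, 12, 14, 12, 13], [10, 10, 10, 11, 10, 11, 10, 11, 10, 11, 11, 10, 10, 10, 10, 10, 14, 14, 14, 13], [10, 11, 11, 10, 11, 10, 10, 10, 11, 10, 10, 10, 11, 10, 10, 13, 14, 12], [35, 35, 35, 35, 35, 35, 34, 34, 34, 34, 34, 34, 35, 34], [11, 11, 10, 11, 10, 10, 10, 11, 10, 11, 11, 10, 10, 11, 14, 12]]
def ch2 : List Model.Lev := [(0, [[16], [17], [18], [19], [20], [21], [22], [23], [24]], 512)]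
noncomputable def l2_0 : TC.WTr := (.node (.node (.node (.node (.node (.node (.leaf [0, 0] 0 0 false) (.leaf [11, 6] 0 0 false)) (.leaf [7, 4] 0 0 false)) (.node (.leaf [5, 1] 0 0 false) (.leaf [9, 4] 0 0 false))) (.node (.node (.leaf [3, 2] 0 0 false) (.leaf [8, 4] 0 0 false)) (.node (.leaf [6, 3] 0 0 false) (.leaf [10, 4] 0 0 false)))) (.node (.node (.node (.leaf [2, 1] 0 0 false) (.leaf [8, 0] 0 0 false)) (.node (.leaf [5, 5] 0 0 false) (.leaf [9, 8] 0 0 false))) (.node (.node (.leaf [4, 2] 0 0 false) (.leaf [8, 8] 0 0 false)) (.node (.leaf [7, 0] 0 0 false) (.leaf [10, 8] 0 0 false))))) (.node (.node (.node (.node (.node (.leaf [1, 1] 0 0 false) (.leaf [11, 8] 0 0 false)) (.leaf [7, 6] 0 0 false)) (.node (.leaf [5, 3] 0 0 false) (.leaf [9, 6] 0 0 false))) (.node (.node (.leaf [4, 0] 0 0 false) (.leaf [8, 6] 0 0 false)) (.node (.leaf [6, 5] 0 0 false) (.leaf [10, 6] 0 0 false)))) (.node (.node (.node (.leaf [3, 0] 0 0 false) (.leaf [8, 2] 0 0 false)) (.node (.leaf [6, 1] 0 0 false) (.leaf [10, 1, 2] 0 0 false))) (.node (.node (.leaf [4, 4] 0 0 false) (.leaf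 [9, 2] 0 0 false)) (.node (.leaf [7, 2] 0 0 false) (.leaf [11, 2] 0 0 false))))))
noncomputable def l2_1 : TC.WTr := (.node (.node (.node (.node (.node (.node (.leaf [1, 0] 0 0 false) (.leaf [11, 7] 0 0 false)) (.leaf [7, 5] 0 0 false)) (.node (.leaf [5, 2] 0 0 false) (.leaf [9, 5] 0 0 false))) (.node (.node (.leaf [3, 3] 0 0 false) (.leaf [8, 5] 0 0 false)) (.node (.leaf [6, 4] 0 0 false) (.leaf [10, 5] 0 0 false)))) (.node (.node (.node (.leaf [2, 2] 0 0 false) (.leaf [8, 1] 0 0 false)) (.node (.leaf [6, 0] 0 0 false) (.leaf [10, 0] 0 0 false))) (.node (.node (.leaf [4, 3] 0 0 false) (.leaf [9, 1] 0 0 false)) (.node (.leaf [7, 1] 0 0 false) (.leaf [11, 1, 4] 0 0 false))))) (.node (.node (.node (.node (.leaf [2, 0] 0 0 false) (.leaf [7, 7] 0 0 false)) (.node (.leaf [5, 4] 0 0 false) (.leaf [9, 7] 0 0 false))) (.node (.node (.leaf [4, 1] 0 0 false) (.leaf [8, 7] 0 0 false)) (.node (.leaf [6, 6] 0 0 false) (.leaf [10, 7] 0 0 false)))) (.node (.node (.node (.leaf [3, 1] 0 0 false) (.leaf [8, 3] 0 0 false)) (.node (.leaf [6, 2] 0 0 false) (.leaf [10, 3] 0 0 false)))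 (.node (.node (.leaf [5, 0] 0 0 false) (.leaf [9, 3] 0 0 false)) (.node (.leaf [7, 3] 0 0 false) (.leaf [11, 5] 0 0 false))))))
noncomputable def r2_0 : TC.WTr := (.node (.node (.node (.node (.node (.node (.leaf [3, 4] 0 0 false) (.leaf [6, 8, 11] 0 0 false)) (.leaf [4, 7] 0 0 false)) (.node (.leaf [1, 5] 0 0 false) (.leaf [2, 3, 4, 5, 6, 7, 8, 9] 0 0 false))) (.node (.node (.leaf [2, 3, 5] 0 0 false) (.leaf [4, 8] 0 0 false)) (.node (.leaf [3, 6] 0 0 false) (.leaf [0, 4, 6, 7, 8, 10] 0 0 false)))) (.node (.node (.node (.leaf [1, 2, 6, 7, 8] 0 0 false) (.leaf [0, 8] 0 0 false)) (.node (.leaf [] 0 0 false) (.leaf [8, 9] 0 0 false))) (.node (.node (.leaf [2, 4, 6, 7] 0 0 false) (.leaf [] 0 0 false)) (.node (.leaf [0, 7] 0 0 false) (.leaf [7, 8, 10] 0 0 false))))) (.node (.node (.node (.node (.node (.leaf [5, 6, 8] 0 0 false) (.leaf [8, 11] 0 0 false)) (.leaf [6, 7] 0 0 false)) (.node (.leaf [3, 5, 8] 0 0 false) (.leaf [6, 8, 9] 0 0 false))) (.node (.node (.leaf [0, 4, 5, 8] 0 0 false) (.leaf [6, 8] 0 0 false)) (.node (.leaf [5, 6] 0 0 false) (.leaf [3, 4, 5, 6,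 7, 10] 0 0 false)))) (.node (.node (.node (.leaf [0, 3, 5] 0 0 false) (.leaf [2, 8] 0 0 false)) (.node (.leaf [1, 6] 0 0 false) (.leaf [1, 2, 6, 7, 8, 10] 0 0 false))) (.node (.node (.leaf [6, 7, 8] 0 0 false) (.leaf [1, 2, 3, 5, 6, 8, 9] 0 0 false)) (.node (.leaf [2, 7, 8] 0 0 false) (.leaf [1, 3, 4, 8, 11] 0 0 false))))))
noncomputable def r2_1 : TC.WTr := (.node (.node (.node (.node (.node (.node (.leaf [0, 1, 3] 0 0 false) (.leaf [1, 2, 3, 5, 7, 11] 0 0 false)) (.leaf [5, 7] 0 0 false)) (.node (.leaf [2, 5] 0 0 false) (.leaf [7, 8, 9] 0 0 false))) (.node (.node (.leaf [6, 7] 0 0 false) (.leaf [5, 8] 0 0 false)) (.node (.leaf [4, 6] 0 0 false) (.leaf [5, 7, 8, 10] 0 0 false)))) (.node (.node (.node (.leaf [8] 0 0 false) (.leaf [1, 8] 0 0 false)) (.node (.leaf [0, 6, 8] 0 0 false) (.leaf [0, 8, 10] 0 0 false))) (.node (.node (.leaf [3, 4, 7] 0 0 false) (.leaf [3, 5, 7, 8, 9] 0 0 false)) (.node (.leaf [1, 7, 8] 0 0 false) (.leaf [5, 6, 7, 11] 0 0 false))))) (.node (.node (.node (.node (.leaf [0, 2, 4] 0 0 false) (.leaf [] 0 0 false)) (.node (.leaf [4, 5, 8] 0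 0 false) (.leaf [5, 9] 0 0 false))) (.node (.node (.leaf [1, 4, 5, 7, 8] 0 0 false) (.leaf [7, 8] 0 0 false)) (.node (.leaf [8] 0 0 false) (.leaf [7, 10] 0 0 false)))) (.node (.node (.node (.leaf [1, 3, 6] 0 0 false) (.leaf [3, 8] 0 0 false)) (.node (.leaf [2, 6] 0 0 false) (.leaf [0, 4, 5, 7, 10] 0 0 false))) (.node (.node (.leaf [0, 5, 7] 0 0 false) (.leaf [1, 5, 8, 9] 0 0 false)) (.node (.leaf [3, 7] 0 0 false) (.leaf [1, 3, 4, 5, 6, 11] 0 0 false))))))
noncomputable def tL2 : TC.WTr := (.node l2_0 l2_1)
noncomputable def tR2 : TC.WTr := (.node r2_0 r2_1)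
noncomputable def C2 : Tail.Cfg := ⟨nat_lit 2, nat_lit 1, nat_lit 9, nat_lit 67, nat_lit 19, tL2.get, tR2.get⟩
noncomputable def tests2 : List (List ℕ × ℕ × Bool × ℕ) := [([5], 16, false, (nat_lit 0x400000000000000000060000000000000000000000000000000000000000000000000000000000000000000000000000)), ([5], 17, false, (nat_lit 0x400000000000003000000000000000000000000000000000000000000000000000000000000000000000000000000000)), ([7], 28, false, (nat_lit 0x80000000000000000000000000000000060000000000000000000000000000000000000000000000000000000000000000000000000000000000000000000000000000000000000000000000000000000000000)), ([7], 31, false, (nat_lit 0x8000000000000000000c000000000000000000000000000000000000000000000000000000000000000000000000000000000000000000000000000000000000000000000000000000000000000000000000000)), ([7], 32, false, (nat_lit 0x80000000000000600000000000000000000000000000000000000000000000000000000000000000000000000000000000000000000000000000000000000000000000000000000000000000000000000000000)), ([7], 33, false, (nat_lit 0x80000000030000000000000000000000000000000000000000000000000000000000000000000000000000000000000000000000000000000000000000000000000000000000000000000000000000000000000)),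 ([7], 34, false, (nat_lit 0x80001800000000000000000000000000000000000000000000000000000000000000000000000000000000000000000000000000000000000000000000000000000000000000000000000000000000000000000)), ([8], 36, false, (nat_lit 0x400000000000000000000000000000000000006000000000000000000000000000000000000000000000000000000000000000000000000000000000000000000000000000000000000000000000000000000000000000000000000000000000000000000000000000)), ([8], 37, false, (nat_lit 0x400000000000000000000000000000000300000000000000000000000000000000000000000000000000000000000000000000000000000000000000000000000000000000000000000000000000000000000000000000000000000000000000000000000000000000)), ([8], 38, false, (nat_lit 0x400000000000000000000000000018000000000000000000000000000000000000000000000000000000000000000000000000000000000000000000000000000000000000000000000000000000000000000000000000000000000000000000000000000000000000)), ([8], 39, false, (nat_lit 0x400000000000000000000000c00000000000000000000000000000000000000000000000000000000000000000000000000000000000000000000000000000000000000000000000000000000000000000000000000000000000000000000000000000000000000000)),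 ([8], 40, false, (nat_lit 0x400000000000000000060000000000000000000000000000000000000000000000000000000000000000000000000000000000000000000000000000000000000000000000000000000000000000000000000000000000000000000000000000000000000000000000)), ([8], 41, false, (nat_lit 0x400000000000003000000000000000000000000000000000000000000000000000000000000000000000000000000000000000000000000000000000000000000000000000000000000000000000000000000000000000000000000000000000000000000000000000)), ([8], 42, false, (nat_lit 0x400000000180000000000000000000000000000000000000000000000000000000000000000000000000000000000000000000000000000000000000000000000000000000000000000000000000000000000000000000000000000000000000000000000000000000)), ([8], 43, false, (nat_lit 0x40000c000000000000000000000000000000000000000000000000000000000000000000000000000000000000000000000000000000000000000000000000000000000000000000000000000000000000000000000000000000000000000000000000000000000000)), ([2], 5, false, (nat_lit 0x4000000000000000000000000000000000000000000000000000000000000000000000000000000000000000000000000000000000000000000000000000000000000000000000000000000000002000000000000000000000000)),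 ([6], 20, false, (nat_lit 0x8000000000000000000000000000400000000000000000000000000000000000000000000000000000000000000000000000000000000000000000000000)), ([6], 27, false, (nat_lit 0x40000000000000000000000000000000000000000000000000000000000000000000000800000000000000000000000000000000000000000000000000000000000000000000000000000000000000000000000000000000000000000000000000000000)), ([5], 15, false, (nat_lit 0x60000000018000000000000000000000000000000000000000000000000000000000000400000000000000000000000c00000000000000000000000000000000000000000000000000000000000000000000000)), ([5], 18, false, (nat_lit 0x300000000000001800000000000000000000000000000000000000000000000000000000000000000000000000000000000000000000000000400000000180000000000000000000000000000000000000000000000000000000000000000000000000000000000000)), ([5], 19, false, (nat_lit 0x30000000000000180000000000000000000000000000000000000000000000000000000000000000000000000000000000000000000000000040000c000000000000000000000000000000000000000000000000000000000000000000000000000000000000000000)), ([6],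 22, false, (nat_lit 0x80000000000000000000000000000000000000000000000800000000000000000000001800000000000000000000000000000000000000000000000000000000000000000000000000000000000000000000000000000000)), ([6], 23, false, (nat_lit 0x40000000000000000000000000000000000000000000000000008000000000000000000c0000000000000000000000000000000000000000000000000000000000000000000000000000000000000000000000000000000000000)), ([6], 24, false, (nat_lit 0x200000000000000000000000000000000000000000000000000000000800000000000006000000000000000000000000000000000000000000000000000000000000000000000000000000000000000000000000000000000000000000)), ([6], 25, false, (nat_lit 0x10000000000000000000000000000000000000000000000000000000000000800000000300000000000000000000000000000000000000000000000000000000000000000000000000000000000000000000000000000000000000000000000)), ([6], 26, false, (nat_lit 0x800000000000000000000000000000000000000000000000000000000000000000800018000000000000000000000000000000000000000000000000000000000000000000000000000000000000000000000000000000000000000000000000000)),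 ([7], 29, false, (nat_lit 0x300006000000000000000000000000000000000000080000000000000000000000000003000000000000000000000000000000000000000000000000000000000000000000000000000000000000000000000000000000000000000000000000000000000000000000)), ([7], 30, false, (nat_lit 0x300006000000000000000000000000000000000000080000000000000000000000180000000000000000000000000000000000000000000000000000000000000000000000000000000000000000000000000000000000000000000000000000000000000000000000)), ([3], 9, false, (nat_lit 0x2000000000000000000000000000000001000000000000000000000000000000000000000000000000000000000000000000000020000000000000000000000000000000000000000000)), ([7], 27, false, (nat_lit 0x2000000000000000000000000000000000000000000800000000000000000000000000000000800000000000000000000000000000000000000000000000000000000000000000000000000000000000000000000000000000000000000000000000000000000)), ([7], 9, false, (nat_lit 0x80000c00000000000004000000000000000000000000000000000000000000000000000000000000000000000000000000000000000000000000000000020000000000000000000000000000000000000000000)),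 ([6], 21, false, (nat_lit 0x3000000000c0000000000000000000000000001000000000000000000000000000000000000000000800000000000000000000000000030000000000000000000000000000000000000000000000000000000000000000000000000000000000000000000000000000)), ([1], 2, false, (nat_lit 0x80000000000000000000000000000000000000000000000000000000000000000000000400000000000000000000000000010000000000000000000000000000000000000000000000000000000000000000010000000000)), ([4], 14, false, (nat_lit 0x10000000000000000000000000000000000000100000000000000000000000000000000080000000000000000000000000000000000000000000000000010000000000000000000000000000000000000000000000000000000000000000000)), ([7], 0, false, (nat_lit 0x300006000000000000020000000000000000000000000000000000000000000000000000000000000000000000000000000000000000000000000000000000000000000000000000000000004)), ([5], 2, false, (nat_lit 0x800000000000000000000000000000000000000000000000000000000000000000000004000000000000000000000000000400000000000000000020000000000000000000000000000000000000000000000000000000000000000010000000000)),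 ([7], 6, false, (nat_lit 0x18000000008000000000000040000000000000000000000000000000000000000000000000000000000000000000000000000000000000000000000000000000100000000000000000000000000000)), ([0], 0, false, (nat_lit 0x100000000000000800000000000000000000000000000000000000000000000000000000000000000000000000000000000000000000000000100002000000000000000000000000000000000000000000400000000000000000040000000000000000000000000004)), ([3], 5, false, (nat_lit 0x1000000000200000000000000000000000000000000000000000000000000000000000000000000000000000000000000000100000000000000800000000000000000000000000000000000000000200000000000002000000000000000000000000)), ([4], 9, false, (nat_lit 0x20000000000000100002000000000000000000000000000080000000000000000000000000000000000000000000000000000000100000000000000000020000000000000000000000000000000000000000000)), ([5], 0, false, (nat_lit 0x3000000000000000000300000000000000000000000200000000000000000000000000000000100000000000000000000000000000000000000000060000c0000000000000400000000000000000000000000000000000000000000000000000000000000000000004)),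 ([6], 1, false, (nat_lit 0x600000000180000000000000000000000000000000000000000000000000000000000003000000001000020000000000000000000000000000000000000000000000000000000000000000000000000000000000000000000000200000)), ([7], 1, false, (nat_lit 0x600000000000001000000000000000000000006000000002000040000000000000000000000000000000000000000000000000000000000000000000000000000000000000000000000000000000000000000000000000000000200000)), ([3], 7, false, (nat_lit 0x60000c000000000000000000000000000000000000180000000000000000000000080000000060000000000000300000000040000000000000000000000000000000000000000000000000000000000002000000000c000000000000000000000000000000000)), ([3], 2, false, (nat_lit 0x100000000080000000000000200000000000000000000000000000000000000000000000000000000200000000000001000000000400000000000000000040000000000000000000000000000000000000000000000000004000000000000000000000010000000000)), ([5], 3, false, (nat_lit 0x3000060000000000000300000000000000000000000000000000000003000000000c0000000000000000000000000000000000000000000000000006000000002000000000800000000000000000000000000000000000000000000000000000000800000000000000)),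 ([3], 8, false, (nat_lit 0x18000000000000000000000000000000000000300000000000000400000000000000000180000000000000200000000000003000000000c0000000000000000000000000000000000000000020000600000000000000000000000000000000000000)), ([4], 5, false, (nat_lit 0x100004000080000000010000000000000000000000020000400000000000000000040000000000000200000000000000000020000000000000000000000000000000000000000000000000002000000000000000000000000000000002000000000000000000000000)), ([3], 3, false, (nat_lit 0x20000000010000000000000000000000000000000000000000000000000000000000000400000000000001800000000200000000080000000000000000000000400000000100000000000000800000000000000)), ([3], 6, false, (nat_lit 0x20000000018000000000000000000000000000000000000300000000000000000000000100000000180000000000000000000000080003000000000c0000000000000000000000000000000000000000020000000000000180000000000000000000000000000)), ([2], 4, false, (nat_lit 0x60000c00018000000000000000000c000080000000060000c000000000000000000c0000000000000600000000000000000060000000000000000000000000000000000000000000000000000000000000000000000000000000000002000060000000000000000000)),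 ([3], 0, false, (nat_lit 0x20000000000000400000000000000000000000000008000200000000000000000000000100000000000000000000000200000000080000000000000000020000000000000080000000000000000000000000004)), ([2], 3, false, (nat_lit 0x30000c000180000000060000000000000000001000060000c0000000030000000000000000000000060000000018000000000000000000000000000000000000000000000000000c000000003000000000000000000000000000000002000000000c00000000000000)), ([2], 2, false, (nat_lit 0x200002000080000000000000000004000080000000020000400000000000000000000000800000000200000000000000000020000400000000000000000000000800000000000000000000000000000000000000000000000000000000000020000000010000000000)), ([4], 10, false, (nat_lit 0x700002000000003000030000000000000000001000000000000030000000000000000000000010000000018000000000000000000000008000300006000000000000000000000010000000000000000001800000000000000000000000000000000000000000000000)), ([4], 11, false, (nat_lit 0x7000060000000030000300000000000000800000000600000000180003000000000000008000000000000180000000000000000004000000003000060000000000000000000000100000000000000c0000000000000000000000000000000000000000000000000000)),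 ([1], 1, false, (nat_lit 0x7000000000c0000000000000c0000000000000100000000040001800000000000000000000000000060000c000000003000000000000008000000000000180000000000000200000000000000000000000000018000000006000000000000000000000010000300000)), ([2], 0, false, (nat_lit 0x300006000040001000010000000000000000000000020000400008000100000000000000000000000200004000080000000000000000000000100006000000000000000000000004000000001000000000400000000100000000000000000000000400000000000004)), ([1], 0, false, (nat_lit 0x200002000040000000000000400000000000000000040000000008000100004000000000000000000200008000100001000000000000000000100000000080000000000000000000000100000000020000000008000000002000040000000000000000000000100004)), ([51, 51], 9, true, (nat_lit 0xc00000000000000000000000000000000000000000000000000000000000000000000000000020000000000000000000000000000000000000000000000000000000000000000000000300000000000000000000000000000000000000000000000000000000000000000000000000000000000000000000000)), ([52, 52], 9, true, (nat_lit 0x60000000000000000000000000000000000000400000000000000000000000000000000000000000000000000000000000000000000000000000000000000000000000000000000000000000000000000000000000000000000000000000000000000000000000000000000000000000000000000000000000000000)),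 ([49, 49], 9, true, (nat_lit 0x300000000000000000000000300006000000000000000000000000000000000000060000000000000000000000000000000000000000000000000000000000000000000000100000000000000000000000000000000000000000000000000000000000000000000000000000000000000000000000)), ([50, 52, 50], 9, true, (nat_lit 0x30000000018000000000000000000000000000700000000040000000000000000000000000000000000000000000000000000000000000000000000800000000000000000000000000000000000000000000000000000000000000000000000000000000000000000000000000000000000000000000000000000000)), ([47, 51, 47, 50, 52], 9, true, (nat_lit 0x3000060000c0000000000000c0000000000000a000000000c000180000000000000000018000000002000000000000000000200000000000000000080000c00000000000000000000000000060000000000000000000000000000000000000000000000000000800000000000000000000000000000000c000000000)), ([47, 52, 47, 50, 51], 9, true, (nat_lit 0x3000060000c0000000000000c0000000000000a0000200004000300000000020000000000000000002000040000000000000000000000000000000080001800000000000000000000000000060000000000000000003000000000000000000000000000000000800000000000000000000000000000000c000000000)),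 ([45, 45, 49, 50], 9, true, (nat_lit 0xc000180000000000000000030000a0000c0000400008000000006000000000000000000c000000001800000000600000000000000000080001c0000000000000000000000000004000000000c0000000000000000000000000000000000000000018000000000000000000000000000000004000000000)), ([45, 51, 45, 49, 50, 51, 52], 9, true, (nat_lit 0x30000c0000c000180000000000000000030000b0000c0000c00048000000006000000000000000000e0000400020000000006000000000800000000800010000000000000000000000000000700000000000000000000000000000000000000000000000000018000000000000000000000000000000004000000000)), ([46, 51, 46, 51], 9, true, (nat_lit 0xc000000000000000000000018000000010000140000c0004800000000c0000c00018000000008000180000000000000c000100000000000001200018000000000000060000c000000009000000000c000300000000000000000000000000000000000001800030000600000000200003000000000c000000000)), ([48, 50, 48, 51], 9, true, (nat_lit 0x60000c00000000600000000000000000100001400010000180006000060000c000000000000140001c000300003000000000c0000000000001400018000200003000000000000000000600006000000001800000000000010000180003000000000000018000300000000000001800000000000000000000000)),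 ([45, 47, 45, 47, 49, 50, 51, 52], 9, true, (nat_lit 0x3000060000c0001800000000c0000000030001500016000100004800000000a000000003000000000e0001000040000000006000000003000000001000038000000004000000000000000000a00000000080000000060000000000000000000000000000000020000000008000000000000000000000010000000000)), ([45, 48, 45, 48, 52], 9, true, (nat_lit 0x30000000000000000006000000000000030001b0001a000200006000080000c0000c00000000000020000100004800040000c000180000000000001400034000400003000000000000000000a0000e000180001800000000000010000300003000020000000030000600000000000001800000000000004000000000)), ([45, 46, 45, 46, 49, 51, 52], 9, true, (nat_lit 0x30000600000000180000000000001800030001e000280001c000580000000180002000030000000014000300002000000000c000100003000000001a000240000000060000e0000c00000000d0000000018000580003000000000000000000000000000000003000060000c000000002000040000000010000000000)), ([59, 59], 10, true, (nat_lit 0xc0000000000000000000000000000000000000000000000000000000000000000000000000000000000000000000000000000000000000000080000000000000000000000000000000000000000000000000000000000000000000000000000000000000000000000000000000000000000000000000000000000000000000000000000000000000000000000)),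 ([60, 60], 10, true, (nat_lit 0x6000000000000000000000000000000000000000000000000000000000000000000000000000400006000000000000000000000000000000000000060000000000000000000000000000000000000000000000000000000000000000000000000000000000000000000000000000000000000000000000000000000000000000000000000000000000000000000000)), ([57, 57], 10, true, (nat_lit 0x30000000000000000000000000000000000000000000000000000000000000300006000000001800000000000000000000000000060000000018000000000000000000000000000000000000000000000000000000000000400000000000000000000000000000000000000000000000000000000000000000000000000000000000000000000000)), ([58, 58, 60], 10, true, (nat_lit 0x3000000001800000000000000000000000000000000000000000000000000000000000000000a0000c0000c0001800000000000000000000000000120000000018000600006000000000000000000e000240001800030000000000000000003000060000c000000000000000000c000180000000000000000018000000000000000000000000000000000000000000)), ([55, 59, 55, 58, 60], 10, true, (nat_lit 0x3000060000c0000000000000c000000000000000000000000000000000000000000000000000d0000c0000c0003000000000000000000000000000200000000048000600008000000000000000000e000480003000030000000000000000006000060000c0000000000000600018000180000000000000c00020000000000000000000000000000000000000000003)),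 ([54, 59, 54, 57, 60], 10, true, (nat_lit 0x30000600000000180000000000001800000000000000000000000000000000000000000000012000200002800028000000000000100001800000001400018000000000000000000c0000800000000e000000000000000000e0000c00000000400000000000004000000000000000000000000000000000000000000000000000000002000040000000010000000000)), ([56, 56, 58, 59], 10, true, (nat_lit 0x60000c000000006000000000000000000000000000000000000000000000000000000013000080001c00048000600006000000000000030001a000100003000060000600000000000003000140003000018000300000000000001800030000c0000c000000000000000001c000180000000000000c00018000000000000000000000000000000000000000003)), ([53, 53, 55, 56, 59], 10, true, (nat_lit 0x6000000000000030000600000000300000000000000000000000000000000000000000100001a0000400030000300000000000000000060001c0001000018000700000000000000000000000e0002400028000000000000000001800060000600000000000000000060001c000200000000000000c00020000000000000180000000000000000000000000007)), ([53, 56, 53, 55, 57], 10, true, (nat_lit 0x18000300006000000003000000000000000000000000000000000000000000e000200001000038000600000000000000000060001a0001c00028000600002000000000000000000e0002000030000100000000000000000070000000004000000000000060001c000180000000000000400020000000000000180000000000000000000000000007)),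 ([55, 57, 55, 57, 58, 59], 10, true, (nat_lit 0x60000c0003000000000c000000000000000000000000000000000000000000000000001000008000280005000060000600000000000003000200000400070000900006000000000000000000e00050000300003000000000000000000a0000c000100000000000000000018000180000000000000c00020000000000000000000000000000000000000000003)), ([53, 55, 53, 56, 57, 59, 60], 10, true, (nat_lit 0x3000060000000018000300006000000003000000000000000000000000000000000000000001400016000000002800030000000000000000003000220001000058000700000000000000000030000e0002c00028000000000000000003000070000800000000000000000060001c0002000000000000000000200000000000001c0000000000000000000000000007)), ([54, 56, 54, 56], 10, true, (nat_lit 0x600000000180000000000000000000000000000000000000000000002200036000240003000080000c00020000180006000220004000038000800006000000001800060002200030000380000000080000c0003000070000e0000c000200003000060001c0001800010000200000000180006000060000c0002000040000600010000180003)), ([53, 54, 53, 54], 10, true, (nat_lit 0x1800030000000000000000000000000000000000000000021000220005000040000000008000300003800000001e00034000600004000080001c0000800030001e000400006000040000e0000c00018000400008000100004000040000000010000200004000080000000020000000008000000002000040000800010000200004)),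 ([66, 66], 11, true, (nat_lit 0x180000000000000000000000000000000000000000000000000000000000000000000000000000000000000000000000000000000400000000000000000000000000000000000000000000000000000000000000000000000000000000000000000000000000000000000000000000000000000000000000000000000000000000000000000000000000000000000000000000000000000000000000000)), ([64, 66, 64], 11, true, (nat_lit 0xc0000000060000000000000000000000000000000000000000000000000000000000000000000000000000000000000000000000700000000040000000000000000000000000000000000000000000000000000000000000000000000800000000000000000000000000000000000000000000000000000000000000000000000000000000000000000000000000000000000000000000000000000000)), ([61, 61, 66], 11, true, (nat_lit 0xc000000000000000000000030000000000000000000000000000000000000000000000000000000000000000000000000000000060000e000080000000020000000000000000000000080001000018000100000000000000000000000800010000100000000000000000000000400002000000000000000000000004000000000000020000000000000000000000000000000000000000004000000000)), ([62, 62, 66], 11,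 true, (nat_lit 0xc00000000000000000180000000000000000000000000000000000000000000000000000000000000000000000000000000000010000060001800000000300006000000001800000000c0000c00000000600006000000000000000000c000000003000030000000000000000003000060000c000000000000000000c00018000000006000000001800000000600000000080000000000000c000000000)), ([65, 65], 11, true, (nat_lit 0x3000000000000000000000000000000000000000000000000000000000000000000000000000000000000000000000000000c0000c000240001800000000c000180000000000000e0001800048000000006000000001800000000c000180000000030000c000000000000060000000018000180003000000000000000000000000000000001800030000600000000180003000000000c000000000)), ([63, 66, 63, 66], 11, true, (nat_lit 0x180000000000000c000000000000000000000000000000000000000000000000000000000000000000000000000000000000000013000000002400038000300006000000001800000000c0000c00030000600006000000000000000001200024000180006000000000c0000000070000c00018000000003000000000c00018000000006000000001800000000600000000000000000000000c000000000)), ([61, 65, 61, 65], 11, true, (nat_lit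 0x300000000000000000030000000000000000000000000000000000000000000000000000000000000000000000000000000150001c000440004800010000c00024000000000000160001c0006000000000c0000c0003800000001400034000100006000120000c00000000a00002000240003000060000000004000000000000020000000018000300006000000001800030000000010000000000)), ([61, 62, 61, 62, 66], 11, true, (nat_lit 0xc0000000000000000018000300000000000000000000000000000000000000000000000000000000000000000000000000000001a000240003c0000000040000c00004000180000000160001c00020000b0000c00000000200000000160000c00050000600002000100000000070000e000180000800030000000010000180001000080000000018000000006000000000800010000000010000000000))]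
noncomputable def rows2 : List (ℕ × List (ℕ × ℕ) × ℕ) := [(0, [(1, 1)], (nat_lit 0x0)), (1, [(3, 1)], (nat_lit 0x0)), (2, [(4, 1)], (nat_lit 0x0)), (3, [(7, 1)], (nat_lit 0x0)), (4, [(2, 1), (3, 2), (6, 1), (8, 2)], (nat_lit 0x16d808681c08a0000e8090b7702114a2006882c00000000)), (5, [(0, 1)], (nat_lit 0x0)), (6, [(5, 1)], (nat_lit 0x0)), (7, [(8, 1)], (nat_lit 0x0)), (8, [(5, 1)], (nat_lit 0x40108a0820d6ae21f084800000000)), (9, [(2, 1)], (nat_lit 0x0)), (10, [(5, 1), (6, 1), (8, 2)], (nat_lit 0xa0000000008000a00600e64236b88316c4a440000000)), (11, [(2, 1), (3, 2), (5, 1), (6, 1), (8, 1)], (nat_lit 0xa0028880080820f0080aaa8000b82114005480000000)), (12, [(2, 1), (3, 2)], (nat_lit 0x8409400000002803038000f0cca10180a800000000)), (13, [(2, 1), (3, 2), (8, 3)], (nat_lit 0x288800888204b0c074ec149f6502e0cecc0000000)), (14, [(2, 1), (3, 2), (6, 1), (7, 2), (8, 2)], (nat_lit 0x8681c00000002a080b88025360f320003c80000000)), (15, [(2, 1), (3, 2), (8, 3)], (nat_lit 0xa0000000008000a10606e6c1d37e5204ccec40000000)), (16, [], (nat_lit 0xa0000000080820e80802f980c92d3106c41080000000)),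 (17, [], (nat_lit 0xa0028880080820ea0a00a800b988022a403080000000)), (18, [(6, 1), (8, 2)], (nat_lit 0xa0000000080820680800f880aa88300b88c880000000)), (19, [(6, 1), (8, 2)], (nat_lit 0x28880088820c2060066c233982136ccfc40000000)), (20, [(5, 2)], (nat_lit 0xa0028880080820620800a8002300800a80b080000000)), (21, [(6, 1), (8, 2)], (nat_lit 0xa0000000008000200604e4c1b1988309445c40000000)), (22, [], (nat_lit 0xa0000000080820e80802f980c92c3106c81080000000)), (23, [], (nat_lit 0x88820400c02004071a413034c94c0000000)), (24, [], (nat_lit 0x800002000063240103801000000000)), (25, [], (nat_lit 0x800802288243302220089880000000)), (26, [], (nat_lit 0x800000a20082ca220c882000000000)), (27, [(6, 1)], (nat_lit 0x0)), (28, [], (nat_lit 0xa0028880008000aa0e00be431ab0313044e4c0000000)), (29, [(6, 1), (8, 2)], (nat_lit 0xa0000000080820e808005940aa883019484c80000000)), (30, [(6, 1), (8, 2)], (nat_lit 0x28880088820420602604050a4212ccc6440000000)), (31, [], (nat_lit 0x8000020000e12c0001803000000000)), (32, [], (nat_lit 0x800802288243342223089880000000)), (33, [], (nat_lit 0x3000000000000000000)),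 (34, [], (nat_lit 0x82083002002000000000)), (35, [(2, 2), (8, 2)], (nat_lit 0x208088882a3a8a00888b880000000)), (36, [], (nat_lit 0x800808288222a0620488ec80000000)), (37, [], (nat_lit 0x800000a20082082208842000000000)), (38, [], (nat_lit 0x40000000)), (39, [], (nat_lit 0x82080202402000000000)), (40, [], (nat_lit 0x82200001002000000000)), (41, [], (nat_lit 0x80000c000000000000)), (42, [], (nat_lit 0x400000000)), (43, [], (nat_lit 0x2800080001c804800000000)), (44, [(6, 2)], (nat_lit 0x800000a00000802006004000000000))]
noncomputable def YS2 : List (List (ℕ × ℕ) × ℕ × ℕ) := []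
def FS2 : List (List (ℕ × ℕ)) := [[(5, 1)], [(0, 1)], [(9, 1)], [(1, 1)], [(2, 1)], [(6, 1)], [(27, 1)], [(3, 1)], [(7, 1)]]
def av2 (x s : ℕ) : ℕ := ([[0, 1, 0, 3, 0, 0, 0, 3, 0], [0, 0, 0, 0, 1, 3, 3, 0, 1], [1, 0, 0, 0, 0, 0, 3, 0, 2], [0, 0, 0, 2, 0, 0, 0, 0, 0], [0, 0, 0, 0, 0, 0, 0, 2, 0], [0, 0, 0, 0, 0, 2, 0, 0, 0], [0, 0, 0, 0, 0, 0, 0, 0, 2], [0, 0, 2, 0, 0, 0, 0, 0, 2], [0, 0, 0, 0, 0, 0, 2, 0, 0]].getD x []).getD s 0
def ch3 : List Model.Lev := [(0, [[28], [29], [30], [31]], 81)]
noncomputable def tL3 : TC.WTr := (.node (.node (.node (.node (.node (.leaf [0, 0, 0] 0 0 false) (.leaf [5, 2] 0 0 false)) (.leaf [3, 2] 0 0 false)) (.node (.leaf [2, 1] 0 0 false) (.leaf [4, 2] 0 0 false))) (.node (.node (.leaf [1, 1, 1] 0 0 false) (.leaf [4, 0] 0 0 false)) (.node (.leaf [3, 0] 0 0 false) (.leaf [5, 0] 0 0 false)))) (.node (.node (.node (.node (.leaf [1, 0] 0 0 false) (.leaf [5, 3] 0 0 false)) (.leaf [3, 3, 3] 0 0 false)) (.node (.leaf [2, 2, 2] 0 0 false) (.leaf [4, 3] 0 0 false))) (.node (.node (.leaf [2, 0] 0 0 false) (.leaf [4, 1] 0 0 false)) (.node (.leaf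 [3, 1] 0 0 false) (.leaf [5, 1] 0 0 false)))))
noncomputable def tR3 : TC.WTr := (.node (.node (.node (.node (.node (.leaf [] 0 0 false) (.leaf [0, 0, 5] 0 0 false)) (.leaf [2, 3] 0 0 false)) (.node (.leaf [1, 2] 0 0 false) (.leaf [2, 4] 0 0 false))) (.node (.node (.leaf [] 0 0 false) (.leaf [1, 2, 3, 4] 0 0 false)) (.node (.leaf [0, 3] 0 0 false) (.leaf [2, 2, 5] 0 0 false)))) (.node (.node (.node (.node (.leaf [0, 1] 0 0 false) (.leaf [0, 1, 1, 2, 3, 3, 5] 0 0 false)) (.leaf [] 0 0 false)) (.node (.leaf [] 0 0 false) (.leaf [0, 0, 1, 2, 3, 3, 4] 0 0 false))) (.node (.node (.leaf [0, 2] 0 0 false) (.leaf [1, 1, 2, 3, 4] 0 0 false)) (.node (.leaf [1, 3] 0 0 false) (.leaf [0, 1, 2, 5] 0 0 false)))))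
noncomputable def C3 : Tail.Cfg := ⟨nat_lit 3, nat_lit 2, nat_lit 4, nat_lit 18, nat_lit 23, tL3.get, tR3.get⟩
noncomputable def tests3 : List (List ℕ × ℕ × Bool × ℕ) := [([1], 0, false, (nat_lit 0x180001b)), ([2], 0, false, (nat_lit 0x60000000000000001b)), ([2], 2, false, (nat_lit 0x300000000006c00000000000)), ([3], 0, false, (nat_lit 0xc000000000000000000000000000000001b)), ([3], 2, false, (nat_lit 0x60000000000000000000000000006c00000000000)), ([3], 5, false, (nat_lit 0x30000000000000000d80000000000000000000000000000)), ([12, 12, 12], 4, true, (nat_lit 0x4e000000000000000000000000000000000000000d80000000000000000000000000000)), ([10, 10, 10], 4, true, (nat_lit 0x1380000d00004e00009c0000000000d00004e00000000006800000000001)), ([10, 10, 12, 10, 12, 12], 4, true, (nat_lit 0x4e0000000001380000d00008200009c0000000001a80001a00000200006800000000001)), ([11, 11, 11], 4, true, (nat_lit 0x9c0000000000d00004e0001380000000000d00009c0000000000d400000000000)), ([11, 11, 12, 11, 12, 12], 4, true, (nat_lit 0x4e00009c0000000000d0000820001380000000001a8000350000000000d400000000000)),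 ([13, 13, 13], 4, true, (nat_lit 0x270000000000000000000001a80004e00009c0002700000d00004e0001380000680004e000034)), ([10, 10, 11, 10, 11, 11], 4, true, (nat_lit 0x9c0001380001a00009c00023c0000000001a00011e00000000013c00000800001)), ([11, 11, 13, 11, 13, 13], 4, true, (nat_lit 0x2700000000009c000000000278000b60001d60004100001a0000b600020800013c00068000034)), ([14, 14, 14], 5, true, (nat_lit 0x13800000000000000000000000000000000000000000000000001a00000000000000000000000000001)), ([16, 16, 16], 5, true, (nat_lit 0x4e00000000000000000000000000000000000000000000000000000000000000080000000000000000000000000034)), ([15, 15, 15], 5, true, (nat_lit 0x9c00000000000000000000000000000000000000000000000000000000d00004e00009c00006c0002700001a)), ([14, 14, 15, 14, 15, 15], 5, true, (nat_lit 0x9c0001380000000000000000000000000000000000000000000000000270000680000d000006c0002780001b)), ([17, 17, 17], 5, true, (nat_lit 0x27000000000000000000000000000000000000000000001a80004e0001380001380000d00009c00009c0000d00002700001a))]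
noncomputable def rows3 : List (ℕ × List (ℕ × ℕ) × ℕ) := [(0, [(0, 1)], (nat_lit 0x0)), (1, [(4, 1)], (nat_lit 0x0)), (2, [(1, 1)], (nat_lit 0x0)), (3, [(4, 21)], (nat_lit 0xc34d400950e71000000000)), (4, [(4, 7)], (nat_lit 0x2909640091e948000000000)), (5, [(2, 1)], (nat_lit 0x0)), (6, [(4, 3)], (nat_lit 0x28a3c8da9280000000)), (7, [(4, 7)], (nat_lit 0xe24d00d952a78000000000)), (8, [(4, 4)], (nat_lit 0x2e44d800045572380000000)), (9, [(3, 1)], (nat_lit 0x0))]
noncomputable def YS3 : List (List (ℕ × ℕ) × ℕ × ℕ) := [([(1, 1)], 3, (nat_lit 0x8))]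
def FS3 : List (List (ℕ × ℕ)) := [[(0, 1)], [(2, 1)], [(5, 1)], [(9, 1)]]
def av3 (x s : ℕ) : ℕ := ([[1, 0, 0, 0], [0, 1, 0, 0], [0, 0, 1, 0], [0, 0, 0, 1]].getD x []).getD s 0
def ch7 : List Model.Lev := [(1, [[34], [35], [36]], 343)]
noncomputable def tL7 : TC.WTr := (.node (.node (.node (.node (.leaf [0, 0, 0, 0, 0, 0, 0] 0 0 false) (.leaf [3, 2] 0 0 false)) (.leaf [2, 1] 0 0 false)) (.node (.leaf [1, 1, 1, 1, 1, 1, 1] 0 0 false) (.leaf [3, 0] 0 0 false))) (.node (.node (.leaf [1, 0] 0 0 false) (.leaf [2, 2, 2, 2, 2, 2, 2] 0 0 false)) (.node (.leaf [2, 0] 0 0 false) (.leaf [3, 1] 0 0 false))))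
noncomputable def tR7 : TC.WTr := (.node (.node (.node (.node (.leaf [] 0 0 false) (.leaf [2, 3] 0 0 false)) (.leaf [1, 2] 0 0 false)) (.node (.leaf [] 0 0 false) (.leaf [0, 0, 0, 0, 1, 1, 1, 1, 1, 1, 2, 2, 3] 0 0 false))) (.node (.node (.leaf [0, 1, 2] 0 0 false) (.leaf [] 0 0 false)) (.node (.leaf [0, 2] 0 0 false) (.leaf [0, 0, 0, 1, 1, 1, 2, 2, 2, 2, 2, 3] 0 0 false))))
noncomputable def C7 : Tail.Cfg := ⟨nat_lit 7, nat_lit 6, nat_lit 3, nat_lit 9, nat_lit 27, tL7.get, tR7.get⟩
noncomputable def tests7 : List (List ℕ × ℕ × Bool × ℕ) := [([2], 0, false, (nat_lit 0xe00000000000000000031)), ([2], 2, false, (nat_lit 0x7000000000000c40000000000000)), ([1], 0, false, (nat_lit 0x8000000000002a00000000000038000031)), ([8, 8, 8, 8, 8, 8, 8], 3, true, (nat_lit 0x150000000000000000000188000000000000000000000000000000000)), ([7, 7, 7, 7, 7, 7, 7], 3, true, (nat_lit 0x2a000000000001500001f80000150000002440005e80000090)), ([7, 7, 7, 7, 7, 7, 8, 7, 8, 8, 8, 8, 8, 8], 3, true, (nat_lit 0x15000002a000000000001688002011000162000002440005e80000090)), ([6, 6, 6, 6, 6, 6, 6],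 3, true, (nat_lit 0x54000015000039c000017a000004800007e000000c1)), ([6, 6, 6, 6, 6, 6, 8, 6, 8, 8, 8, 8, 8, 8], 3, true, (nat_lit 0x150000000000005400001688003ae0000192200004800007e000000c1)), ([6, 6, 6, 6, 6, 6, 7, 6, 7, 7, 7, 7, 7, 7, 8, 8, 8, 8, 8, 8], 3, true, (nat_lit 0x12000002a000005400002e88005a66000360000006c4000f308000151))]
noncomputable def rows7 : List (ℕ × List (ℕ × ℕ) × ℕ) := [(0, [(1, 1)], (nat_lit 0x0)), (1, [(0, 1)], (nat_lit 0x0)), (2, [(2, 1)], (nat_lit 0x0)), (3, [], (nat_lit 0xe881b6701c000)), (4, [], (nat_lit 0x32594c000000)), (5, [(0, 42)], (nat_lit 0x55c8ce001000))]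
noncomputable def YS7 : List (List (ℕ × ℕ) × ℕ × ℕ) := []
def FS7 : List (List (ℕ × ℕ)) := [[(1, 1)], [(0, 1)], [(2, 1)]]
def av7 (x s : ℕ) : ℕ := ([[0, 1, 0], [0, 0, 1], [42, 0, 0]].getD x []).getD s 0
end H0.QON
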