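import Cfsg.Agent.H0.QON.D
set_option maxRecDepth 100000
set_option Elab.async false
namespace H0.QON
open H0 BN 
theorem c0 : Model.fixP R [] [[16], [17], [18], [19], [20], [21], [22], [23], [24]] = true := by decide +kernel
theorem c1 : Model.growP R [[16], [17], [18], [19], [20], [21], [22], [23], [24]] [0, 1, 2, 3, 4, 5, 6, 7, 8] 0 512 = true := by decide +kernel
theorem c2 : rulesB R [222, 1, 0] (fun i => sh 16 (C2.L i)) (fun i => sh 16 (C2.R i)) 0 18 = true := by decide +kernel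
theorem c3 : rulesB R [222, 1, 0] (fun i => sh 16 (C2.L i)) (fun i => sh 16 (C2.R i)) 18 23 = true := by decide +kernel
theorem c4 : rulesB R [222, 1, 0] (fun i => sh 16 (C2.L i)) (fun i => sh 16 (C2.R i)) 41 16 = true := by decide +kernel
theorem c5 : rulesB R [222, 1, 0] (fun i => sh 16 (C2.L i)) (fun i => sh 16 (C2.R i)) 57 10 = true := by decide +kernel
theorem c6 : allL (Tail.chkT C2 (nat_lit 174) (nat_lit 3)) ((tests2.drop 0).take 93) = true := by decide +kernel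
theorem c7 : allL (Tail.rowChk C2 (nat_lit 174) (nat_lit 3) (nat_lit 2) (tests2.map fun T => T.2.2.2) (FS2 ++ YS2.map fun Y => Y.1)) ((rows2.drop 0).take 45) = true := by decide +kernel
theorem c8 : Tail.finChk C2 (nat_lit 174) (nat_lit 3) (nat_lit 2) (nat_lit 2) (C2.p ^ 1) av2 (tests2.map fun T => T.2.2.2) FS2 YS2 rows2 = true := by decide +kernel
theorem c9 : Model.fixP R [] [[28], [29], [30], [31]] = true := by decide +kernel
theorem c10 : Model.growP R [[28], [29], [30], [31]] [0, 1, 2, 3, 0, 1, 2, 3] 0 81 = true := by decide +kernel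
theorem c11 : rulesB R [222, 1, 0] (fun i => sh 28 (C3.L i)) (fun i => sh 28 (C3.R i)) 0 18 = true := by decide +kernel
theorem c12 : allL (Tail.chkT C3 (nat_lit 134) (nat_lit 26)) ((tests3.drop 0).take 19) = true := by decide +kernel
theorem c13 : allL (Tail.rowChk C3 (nat_lit 134) (nat_lit 26) (nat_lit 5) (tests3.map fun T => T.2.2.2) (FS3 ++ YS3.map fun Y => Y.1)) ((rows3.drop 0).take 10) = true := by decide +kernel
theorem c14 : Tail.finChk C3 (nat_lit 134) (nat_lit 26) (nat_lit 5) (nat_lit 3) (C3.p ^ 2) av3 (tests3.map fun T => T.2.2.2) FS3 YS3 rows3 = true := by decide +kernel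
theorem c15 : Model.fixP R [] [[34], [35], [36]] = true := by decide +kernel
theorem c16 : Model.growP R [[34], [35], [36]] [0, 1, 2, 0, 1, 0, 1, 0, 1, 0, 1, 0, 1, 1, 0, 0, 1, 0] 1 343 = true := by decide +kernel
theorem c17 : rulesB R [222, 1, 0] (fun i => sh 34 (C7.L i)) (fun i => sh 34 (C7.R i)) 0 9 = true := by decide +kernel
theorem c18 : allL (Tail.chkT C7 (nat_lit 1907) (nat_lit 48)) ((tests7.drop 0).take 9) = true := by decide +kernel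
theorem c19 : allL (Tail.rowChk C7 (nat_lit 1907) (nat_lit 48) (nat_lit 6) (tests7.map fun T => T.2.2.2) (FS7 ++ YS7.map fun Y => Y.1)) ((rows7.drop 0).take 6) = true := by decide +kernel
theorem c20 : Tail.finChk C7 (nat_lit 1907) (nat_lit 48) (nat_lit 6) (nat_lit 7) (C7.p ^ 1) av7 (tests7.map fun T => T.2.2.2) FS7 YS7 rows7 = true := by decide +kernel
theorem c21 : eqW R 0 3 [37] [11, 11, 10, 11, 10, 10, 10, 11, 10, 11, 11, 10, 10, 11, 14, 12] = true := by decide +kernel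
theorem c22 : eqW R 3 3 [37] [11, 11, 10, 11, 10, 10, 10, 11, 10, 11, 11, 10, 10, 11, 14, 12] = true := by decide +kernel
theorem c23 : eqW R 6 3 [37] [11, 11, 10, 11, 10, 10, 10, 11, 10, 11, 11, 10, 10, 11, 14, 12] = true := by decide +kernel
theorem c24 : eqW R 9 3 [37] [11, 11, 10, 11, 10, 10, 10, 11, 10, 11, 11, 10, 10, 11, 14, 12] = true := by decide +kernel
theorem c25 : eqW R 12 3 [37] [11, 11, 10, 11, 10, 10, 10, 11, 10, 11, 11, 10, 10, 11, 14, 12] = true := by decide +kernel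
theorem c26 : eqW R 15 2 [37] [11, 11, 10, 11, 10, 10, 10, 11, 10, 11, 11, 10, 10, 11, 14, 12] = true := by decide +kernel
theorem c27 : eqW R 0 3 [36] [35, 35, 35, 35, 35, 35, 34, 34, 34, 34, 34, 34, 35, 34] = true := by decide +kernel
theorem c28 : eqW R 3 3 [36] [35, 35, 35, 35, 35, 35, 34, 34, 34, 34, 34, 34, 35, 34] = true := by decide +kernel
theorem c29 : eqW R 6 3 [36] [35, 35, 35, 35, 35, 35, 34, 34, 34, 34, 34, 34, 35, 34] = true := by decide +kernel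
theorem c30 : eqW R 9 3 [36] [35, 35, 35, 35, 35, 35, 34, 34, 34, 34, 34, 34, 35, 34] = true := by decide +kernel
theorem c31 : eqW R 12 3 [36] [35, 35, 35, 35, 35, 35, 34, 34, 34, 34, 34, 34, 35, 34] = true := by decide +kernel
theorem c32 : eqW R 15 2 [36] [35, 35, 35, 35, 35, 35, 34, 34, 34, 34, 34, 34, 35, 34] = true := by decide +kernel
theorem c33 : eqW R 0 3 [35] [10, 11, 11, 10, 11, 10, 10, 10, 11, 10, 10, 10, 11, 10, 10, 13, 14, 12] = true := by decide +kernel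
theorem c34 : eqW R 3 3 [35] [10, 11, 11, 10, 11, 10, 10, 10, 11, 10, 10, 10, 11, 10, 10, 13, 14, 12] = true := by decide +kernel
theorem c35 : eqW R 6 3 [35] [10, 11, 11, 10, 11, 10, 10, 10, 11, 10, 10, 10, 11, 10, 10, 13, 14, 12] = true := by decide +kernel
theorem c36 : eqW R 9 3 [35] [10, 11, 11, 10, 11, 10, 10, 10, 11, 10, 10, 10, 11, 10, 10, 13, 14, 12] = true := by decide +kernel
theorem c37 : eqW R 12 3 [35] [10, 11, 11, 10, 11, 10, 10, 10, 11, 10, 10, 10, 11, 10, 10, 13, 14, 12] = true := by decide +kernel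
theorem c38 : eqW R 15 2 [35] [10, 11, 11, 10, 11, 10, 10, 10, 11, 10, 10, 10, 11, 10, 10, 13, 14, 12] = true := by decide +kernel
theorem c39 : eqW R 0 3 [34] [10, 10, 10, 11, 10, 11, 10, 11, 10, 11, 11, 10, 10, 10, 10, 10, 14, 14, 14, 13] = true := by decide +kernel
theorem c40 : eqW R 3 3 [34] [10, 10, 10, 11, 10, 11, 10, 11, 10, 11, 11, 10, 10, 10, 10, 10, 14, 14, 14, 13] = true := by decide +kernel
theorem c41 : eqW R 6 3 [34] [10, 10, 10, 11, 10, 11, 10, 11, 10, 11, 11, 10, 10, 10, 10, 10, 14, 14, 14, 13] = true := by decide +kernel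
theorem c42 : eqW R 9 3 [34] [10, 10, 10, 11, 10, 11, 10, 11, 10, 11, 11, 10, 10, 10, 10, 10, 14, 14, 14, 13] = true := by decide +kernel
theorem c43 : eqW R 12 3 [34] [10, 10, 10, 11, 10, 11, 10, 11, 10, 11, 11, 10, 10, 10, 10, 10, 14, 14, 14, 13] = true := by decide +kernel
theorem c44 : eqW R 15 2 [34] [10, 10, 10, 11, 10, 11, 10, 11, 10, 11, 11, 10, 10, 10, 10, 10, 14, 14, 14, 13] = true := by decide +kernel
theorem c45 : eqW R 0 3 [33] [9, 8, 9, 8, 8, 8, 9, 9, 8, 9, 9, 9, 9, 11, 11, 10, 10, 10, 11, 10, 11, 10, 10, 10, 12, 14, 12, 13] = true := by decide +kernel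
theorem c46 : eqW R 3 3 [33] [9, 8, 9, 8, 8, 8, 9, 9, 8, 9, 9, 9, 9, 11, 11, 10, 10, 10, 11, 10, 11, 10, 10, 10, 12, 14, 12, 13] = true := by decide +kernel
theorem c47 : eqW R 6 3 [33] [9, 8, 9, 8, 8, 8, 9, 9, 8, 9, 9, 9, 9, 11, 11, 10, 10, 10, 11, 10, 11, 10, 10, 10, 12, 14, 12, 13] = true := by decide +kernel
theorem c48 : eqW R 9 3 [33] [9, 8, 9, 8, 8, 8, 9, 9, 8, 9, 9, 9, 9, 11, 11, 10, 10, 10, 11, 10, 11, 10, 10, 10, 12, 14, 12, 13] = true := by decide +kernel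
theorem c49 : eqW R 12 3 [33] [9, 8, 9, 8, 8, 8, 9, 9, 8, 9, 9, 9, 9, 11, 11, 10, 10, 10, 11, 10, 11, 10, 10, 10, 12, 14, 12, 13] = true := by decide +kernel
theorem c50 : eqW R 15 2 [33] [9, 8, 9, 8, 8, 8, 9, 9, 8, 9, 9, 9, 9, 11, 11, 10, 10, 10, 11, 10, 11, 10, 10, 10, 12, 14, 12, 13] = true := by decide +kernel
theorem c51 : eqW R 0 3 [32] [8, 9, 8, 9, 9, 8, 8, 9, 8, 8, 9, 9, 8, 8, 10, 11, 10, 10, 11, 10, 11, 10, 11, 10, 10, 10, 11, 11, 10, 10, 10, 14, 14, 14, 14, 12] = true := by decide +kernel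
theorem c52 : eqW R 3 3 [32] [8, 9, 8, 9, 9, 8, 8, 9, 8, 8, 9, 9, 8, 8, 10, 11, 10, 10, 11, 10, 11, 10, 11, 10, 10, 10, 11, 11, 10, 10, 10, 14, 14, 14, 14, 12] = true := by decide +kernel
theorem c53 : eqW R 6 3 [32] [8, 9, 8, 9, 9, 8, 8, 9, 8, 8, 9, 9, 8, 8, 10, 11, 10, 10, 11, 10, 11, 10, 11, 10, 10, 10, 11, 11, 10, 10, 10, 14, 14, 14, 14, 12] = true := by decide +kernel
theorem c54 : eqW R 9 3 [32] [8, 9, 8, 9, 9, 8, 8, 9, 8, 8, 9, 9, 8, 8, 10, 11, 10, 10, 11, 10, 11, 10, 11, 10, 10, 10, 11, 11, 10, 10, 10, 14, 14, 14, 14, 12] = true := by decide +kernel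
theorem c55 : eqW R 12 3 [32] [8, 9, 8, 9, 9, 8, 8, 9, 8, 8, 9, 9, 8, 8, 10, 11, 10, 10, 11, 10, 11, 10, 11, 10, 10, 10, 11, 11, 10, 10, 10, 14, 14, 14, 14, 12] = true := by decide +kernel
theorem c56 : eqW R 15 2 [32] [8, 9, 8, 9, 9, 8, 8, 9, 8, 8, 9, 9, 8, 8, 10, 11, 10, 10, 11, 10, 11, 10, 11, 10, 10, 10, 11, 11, 10, 10, 10, 14, 14, 14, 14, 12] = true := by decide +kernel
theorem c57 : eqW R 0 3 [31] [8, 9, 8, 9, 8, 8, 8, 8, 8, 9, 8, 8, 9, 8, 8, 8, 8, 8, 11, 11, 10, 10, 11, 11, 11, 10, 10, 10, 10, 11, 10, 10, 12, 14, 14, 14, 14, 12] = true := by decide +kernel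
theorem c58 : eqW R 3 3 [31] [8, 9, 8, 9, 8, 8, 8, 8, 8, 9, 8, 8, 9, 8, 8, 8, 8, 8, 11, 11, 10, 10, 11, 11, 11, 10, 10, 10, 10, 11, 10, 10, 12, 14, 14, 14, 14, 12] = true := by decide +kernel
theorem c59 : eqW R 6 3 [31] [8, 9, 8, 9, 8, 8, 8, 8, 8, 9, 8, 8, 9, 8, 8, 8, 8, 8, 11, 11, 10, 10, 11, 11, 11, 10, 10, 10, 10, 11, 10, 10, 12, 14, 14, 14, 14, 12] = true := by decide +kernel
theorem c60 : eqW R 9 3 [31] [8, 9, 8, 9, 8, 8, 8, 8, 8, 9, 8, 8, 9, 8, 8, 8, 8, 8, 11, 11, 10, 10, 11, 11, 11, 10, 10, 10, 10, 11, 10, 10, 12, 14, 14, 14, 14, 12] = true := by decide +kernel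
theorem c61 : eqW R 12 3 [31] [8, 9, 8, 9, 8, 8, 8, 8, 8, 9, 8, 8, 9, 8, 8, 8, 8, 8, 11, 11, 10, 10, 11, 11, 11, 10, 10, 10, 10, 11, 10, 10, 12, 14, 14, 14, 14, 12] = true := by decide +kernel
theorem c62 : eqW R 15 2 [31] [8, 9, 8, 9, 8, 8, 8, 8, 8, 9, 8, 8, 9, 8, 8, 8, 8, 8, 11, 11, 10, 10, 11, 11, 11, 10, 10, 10, 10, 11, 10, 10, 12, 14, 14, 14, 14, 12] = true := by decide +kernel
theorem c63 : eqW R 0 3 [30] [8, 9, 8, 8, 9, 8, 9, 8, 8, 8, 9, 9, 8, 8, 9, 8, 9, 9, 11, 10, 11, 10, 10, 11, 10, 10, 11, 10, 11, 10, 10, 11, 11, 10, 10, 10, 14, 14, 14, 13, 12, 13] = true := by decide +kernel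
theorem c64 : eqW R 3 3 [30] [8, 9, 8, 8, 9, 8, 9, 8, 8, 8, 9, 9, 8, 8, 9, 8, 9, 9, 11, 10, 11, 10, 10, 11, 10, 10, 11, 10, 11, 10, 10, 11, 11, 10, 10, 10, 14, 14, 14, 13, 12, 13] = true := by decide +kernel
theorem c65 : eqW R 6 3 [30] [8, 9, 8, 8, 9, 8, 9, 8, 8, 8, 9, 9, 8, 8, 9, 8, 9, 9, 11, 10, 11, 10, 10, 11, 10, 10, 11, 10, 11, 10, 10, 11, 11, 10, 10, 10, 14, 14, 14, 13, 12, 13] = true := by decide +kernel
theorem c66 : eqW R 9 3 [30] [8, 9, 8, 8, 9, 8, 9, 8, 8, 8, 9, 9, 8, 8, 9, 8, 9, 9, 11, 10, 11, 10, 10, 11, 10, 10, 11, 10, 11, 10, 10, 11, 11, 10, 10, 10, 14, 14, 14, 13, 12, 13] = true := by decide +kernel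
theorem c67 : eqW R 12 3 [30] [8, 9, 8, 8, 9, 8, 9, 8, 8, 8, 9, 9, 8, 8, 9, 8, 9, 9, 11, 10, 11, 10, 10, 11, 10, 10, 11, 10, 11, 10, 10, 11, 11, 10, 10, 10, 14, 14, 14, 13, 12, 13] = true := by decide +kernel
theorem c68 : eqW R 15 2 [30] [8, 9, 8, 8, 9, 8, 9, 8, 8, 8, 9, 9, 8, 8, 9, 8, 9, 9, 11, 10, 11, 10, 10, 11, 10, 10, 11, 10, 11, 10, 10, 11, 11, 10, 10, 10, 14, 14, 14, 13, 12, 13] = true := by decide +kernel
theorem c69 : eqW R 0 3 [29] [8, 8, 9, 8, 8, 8, 8, 9, 9, 8, 9, 9, 8, 9, 8, 8, 9, 8, 8, 10, 10, 11, 11, 10, 10, 10, 11, 11, 11, 11, 10, 11, 13, 14, 13, 12] = true := by decide +kernel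
theorem c70 : eqW R 3 3 [29] [8, 8, 9, 8, 8, 8, 8, 9, 9, 8, 9, 9, 8, 9, 8, 8, 9, 8, 8, 10, 10, 11, 11, 10, 10, 10, 11, 11, 11, 11, 10, 11, 13, 14, 13, 12] = true := by decide +kernel
theorem c71 : eqW R 6 3 [29] [8, 8, 9, 8, 8, 8, 8, 9, 9, 8, 9, 9, 8, 9, 8, 8, 9, 8, 8, 10, 10, 11, 11, 10, 10, 10, 11, 11, 11, 11, 10, 11, 13, 14, 13, 12] = true := by decide +kernel
theorem c72 : eqW R 9 3 [29] [8, 8, 9, 8, 8, 8, 8, 9, 9, 8, 9, 9, 8, 9, 8, 8, 9, 8, 8, 10, 10, 11, 11, 10, 10, 10, 11, 11, 11, 11, 10, 11, 13, 14, 13, 12] = true := by decide +kernel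
theorem c73 : eqW R 12 3 [29] [8, 8, 9, 8, 8, 8, 8, 9, 9, 8, 9, 9, 8, 9, 8, 8, 9, 8, 8, 10, 10, 11, 11, 10, 10, 10, 11, 11, 11, 11, 10, 11, 13, 14, 13, 12] = true := by decide +kernel
theorem c74 : eqW R 15 2 [29] [8, 8, 9, 8, 8, 8, 8, 9, 9, 8, 9, 9, 8, 9, 8, 8, 9, 8, 8, 10, 10, 11, 11, 10, 10, 10, 11, 11, 11, 11, 10, 11, 13, 14, 13, 12] = true := by decide +kernel
theorem c75 : eqW R 0 3 [28] [9, 8, 9, 8, 8, 9, 9, 8, 9, 8, 9, 8, 9, 9, 8, 8, 8, 10, 11, 10, 10, 10, 10, 11, 10, 10, 11, 10, 11, 10, 10, 10, 10, 14, 14, 13, 12, 13, 12] = true := by decide +kernel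
theorem c76 : eqW R 3 3 [28] [9, 8, 9, 8, 8, 9, 9, 8, 9, 8, 9, 8, 9, 9, 8, 8, 8, 10, 11, 10, 10, 10, 10, 11, 10, 10, 11, 10, 11, 10, 10, 10, 10, 14, 14, 13, 12, 13, 12] = true := by decide +kernel
theorem c77 : eqW R 6 3 [28] [9, 8, 9, 8, 8, 9, 9, 8, 9, 8, 9, 8, 9, 9, 8, 8, 8, 10, 11, 10, 10, 10, 10, 11, 10, 10, 11, 10, 11, 10, 10, 10, 10, 14, 14, 13, 12, 13, 12] = true := by decide +kernel
theorem c78 : eqW R 9 3 [28] [9, 8, 9, 8, 8, 9, 9, 8, 9, 8, 9, 8, 9, 9, 8, 8, 8, 10, 11, 10, 10, 10, 10, 11, 10, 10, 11, 10, 11, 10, 10, 10, 10, 14, 14, 13, 12, 13, 12] = true := by decide +kernel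
theorem c79 : eqW R 12 3 [28] [9, 8, 9, 8, 8, 9, 9, 8, 9, 8, 9, 8, 9, 9, 8, 8, 8, 10, 11, 10, 10, 10, 10, 11, 10, 10, 11, 10, 11, 10, 10, 10, 10, 14, 14, 13, 12, 13, 12] = true := by decide +kernel
theorem c80 : eqW R 15 2 [28] [9, 8, 9, 8, 8, 9, 9, 8, 9, 8, 9, 8, 9, 9, 8, 8, 8, 10, 11, 10, 10, 10, 10, 11, 10, 10, 11, 10, 11, 10, 10, 10, 10, 14, 14, 13, 12, 13, 12] = true := by decide +kernel
theorem c81 : eqW R 0 3 [27] [9, 9, 9, 8, 8, 9, 9, 8, 9, 8, 9, 8, 8, 9, 9, 9, 8, 11, 11, 10, 10, 11, 10, 11, 11, 11, 11, 11, 10, 10, 11, 13, 14, 14, 14, 12] = true := by decide +kernel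
theorem c82 : eqW R 3 3 [27] [9, 9, 9, 8, 8, 9, 9, 8, 9, 8, 9, 8, 8, 9, 9, 9, 8, 11, 11, 10, 10, 11, 10, 11, 11, 11, 11, 11, 10, 10, 11, 13, 14, 14, 14, 12] = true := by decide +kernel
theorem c83 : eqW R 6 3 [27] [9, 9, 9, 8, 8, 9, 9, 8, 9, 8, 9, 8, 8, 9, 9, 9, 8, 11, 11, 10, 10, 11, 10, 11, 11, 11, 11, 11, 10, 10, 11, 13, 14, 14, 14, 12] = true := by decide +kernel
theorem c84 : eqW R 9 3 [27] [9, 9, 9, 8, 8, 9, 9, 8, 9, 8, 9, 8, 8, 9, 9, 9, 8, 11, 11, 10, 10, 11, 10, 11, 11, 11, 11, 11, 10, 10, 11, 13, 14, 14, 14, 12] = true := by decide +kernel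
theorem c85 : eqW R 12 3 [27] [9, 9, 9, 8, 8, 9, 9, 8, 9, 8, 9, 8, 8, 9, 9, 9, 8, 11, 11, 10, 10, 11, 10, 11, 11, 11, 11, 11, 10, 10, 11, 13, 14, 14, 14, 12] = true := by decide +kernel
theorem c86 : eqW R 15 2 [27] [9, 9, 9, 8, 8, 9, 9, 8, 9, 8, 9, 8, 8, 9, 9, 9, 8, 11, 11, 10, 10, 11, 10, 11, 11, 11, 11, 11, 10, 10, 11, 13, 14, 14, 14, 12] = true := by decide +kernel
theorem c87 : eqW R 0 3 [26] [8, 9, 8, 8, 9, 9, 8, 8, 9, 8, 8, 8, 9, 8, 9, 9, 9, 11, 10, 10, 11, 10, 10, 11, 11, 10, 12, 14, 14] = true := by decide +kernel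
theorem c88 : eqW R 3 3 [26] [8, 9, 8, 8, 9, 9, 8, 8, 9, 8, 8, 8, 9, 8, 9, 9, 9, 11, 10, 10, 11, 10, 10, 11, 11, 10, 12, 14, 14] = true := by decide +kernel
theorem c89 : eqW R 6 3 [26] [8, 9, 8, 8, 9, 9, 8, 8, 9, 8, 8, 8, 9, 8, 9, 9, 9, 11, 10, 10, 11, 10, 10, 11, 11, 10, 12, 14, 14] = true := by decide +kernel
theorem c90 : eqW R 9 3 [26] [8, 9, 8, 8, 9, 9, 8, 8, 9, 8, 8, 8, 9, 8, 9, 9, 9, 11, 10, 10, 11, 10, 10, 11, 11, 10, 12, 14, 14] = true := by decide +kernel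
theorem c91 : eqW R 12 3 [26] [8, 9, 8, 8, 9, 9, 8, 8, 9, 8, 8, 8, 9, 8, 9, 9, 9, 11, 10, 10, 11, 10, 10, 11, 11, 10, 12, 14, 14] = true := by decide +kernel
theorem c92 : eqW R 15 2 [26] [8, 9, 8, 8, 9, 9, 8, 8, 9, 8, 8, 8, 9, 8, 9, 9, 9, 11, 10, 10, 11, 10, 10, 11, 11, 10, 12, 14, 14] = true := by decide +kernel
theorem c93 : eqW R 0 3 [25] [8, 8, 9, 9, 9, 8, 8, 8, 9, 8, 8, 8, 9, 9, 9, 11, 10, 10, 11, 11, 10, 10, 11, 10, 11, 11, 11, 11, 10, 12, 14, 14, 14] = true := by decide +kernel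
theorem c94 : eqW R 3 3 [25] [8, 8, 9, 9, 9, 8, 8, 8, 9, 8, 8, 8, 9, 9, 9, 11, 10, 10, 11, 11, 10, 10, 11, 10, 11, 11, 11, 11, 10, 12, 14, 14, 14] = true := by decide +kernel
theorem c95 : eqW R 6 3 [25] [8, 8, 9, 9, 9, 8, 8, 8, 9, 8, 8, 8, 9, 9, 9, 11, 10, 10, 11, 11, 10, 10, 11, 10, 11, 11, 11, 11, 10, 12, 14, 14, 14] = true := by decide +kernel
theorem c96 : eqW R 9 3 [25] [8, 8, 9, 9, 9, 8, 8, 8, 9, 8, 8, 8, 9, 9, 9, 11, 10, 10, 11, 11, 10, 10, 11, 10, 11, 11, 11, 11, 10, 12, 14, 14, 14] = true := by decide +kernel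
theorem c97 : eqW R 12 3 [25] [8, 8, 9, 9, 9, 8, 8, 8, 9, 8, 8, 8, 9, 9, 9, 11, 10, 10, 11, 11, 10, 10, 11, 10, 11, 11, 11, 11, 10, 12, 14, 14, 14] = true := by decide +kernel
theorem c98 : eqW R 15 2 [25] [8, 8, 9, 9, 9, 8, 8, 8, 9, 8, 8, 8, 9, 9, 9, 11, 10, 10, 11, 11, 10, 10, 11, 10, 11, 11, 11, 11, 10, 12, 14, 14, 14] = true := by decide +kernel
theorem c99 : eqW R 0 3 [24] [23, 17, 17, 17, 17, 17, 17, 17, 23, 17] = true := by decide +kernel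
theorem c100 : eqW R 3 3 [24] [23, 17, 17, 17, 17, 17, 17, 17, 23, 17] = true := by decide +kernel
theorem c101 : eqW R 6 3 [24] [23, 17, 17, 17, 17, 17, 17, 17, 23, 17] = true := by decide +kernel
theorem c102 : eqW R 9 3 [24] [23, 17, 17, 17, 17, 17, 17, 17, 23, 17] = true := by decide +kernel
theorem c103 : eqW R 12 3 [24] [23, 17, 17, 17, 17, 17, 17, 17, 23, 17] = true := by decide +kernel
theorem c104 : eqW R 15 2 [24] [23, 17, 17, 17, 17, 17, 17, 17, 23, 17] = true := by decide +kernel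
theorem c105 : eqW R 0 3 [23] [21, 16, 16, 16, 16, 16, 16, 16, 21, 16] = true := by decide +kernel
theorem c106 : eqW R 3 3 [23] [21, 16, 16, 16, 16, 16, 16, 16, 21, 16] = true := by decide +kernel
theorem c107 : eqW R 6 3 [23] [21, 16, 16, 16, 16, 16, 16, 16, 21, 16] = true := by decide +kernel
theorem c108 : eqW R 9 3 [23] [21, 16, 16, 16, 16, 16, 16, 16, 21, 16] = true := by decide +kernel
theorem c109 : eqW R 12 3 [23] [21, 16, 16, 16, 16, 16, 16, 16, 21, 16] = true := by decide +kernel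
theorem c110 : eqW R 15 2 [23] [21, 16, 16, 16, 16, 16, 16, 16, 21, 16] = true := by decide +kernel
theorem c111 : eqW R 0 3 [22] [19, 19, 19, 19, 19, 19, 19, 17, 17, 17, 17, 17, 17, 17, 19, 17] = true := by decide +kernel
theorem c112 : eqW R 3 3 [22] [19, 19, 19, 19, 19, 19, 19, 17, 17, 17, 17, 17, 17, 17, 19, 17] = true := by decide +kernel
theorem c113 : eqW R 6 3 [22] [19, 19, 19, 19, 19, 19, 19, 17, 17, 17, 17, 17, 17, 17, 19, 17] = true := by decide +kernel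
theorem c114 : eqW R 9 3 [22] [19, 19, 19, 19, 19, 19, 19, 17, 17, 17, 17, 17, 17, 17, 19, 17] = true := by decide +kernel
theorem c115 : eqW R 12 3 [22] [19, 19, 19, 19, 19, 19, 19, 17, 17, 17, 17, 17, 17, 17, 19, 17] = true := by decide +kernel
theorem c116 : eqW R 15 2 [22] [19, 19, 19, 19, 19, 19, 19, 17, 17, 17, 17, 17, 17, 17, 19, 17] = true := by decide +kernel
theorem c117 : eqW R 0 3 [21] [19, 19, 19, 19, 19, 19, 19, 16, 16, 16, 16, 16, 16, 16, 19, 16] = true := by decide +kernel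
theorem c118 : eqW R 3 3 [21] [19, 19, 19, 19, 19, 19, 19, 16, 16, 16, 16, 16, 16, 16, 19, 16] = true := by decide +kernel
theorem c119 : eqW R 6 3 [21] [19, 19, 19, 19, 19, 19, 19, 16, 16, 16, 16, 16, 16, 16, 19, 16] = true := by decide +kernel
theorem c120 : eqW R 9 3 [21] [19, 19, 19, 19, 19, 19, 19, 16, 16, 16, 16, 16, 16, 16, 19, 16] = true := by decide +kernel
theorem c121 : eqW R 12 3 [21] [19, 19, 19, 19, 19, 19, 19, 16, 16, 16, 16, 16, 16, 16, 19, 16] = true := by decide +kernel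
theorem c122 : eqW R 15 2 [21] [19, 19, 19, 19, 19, 19, 19, 16, 16, 16, 16, 16, 16, 16, 19, 16] = true := by decide +kernel
theorem c123 : eqW R 0 3 [20] [18, 18, 18, 16, 16, 16, 16, 16, 16, 16, 18, 16] = true := by decide +kernel
theorem c124 : eqW R 3 3 [20] [18, 18, 18, 16, 16, 16, 16, 16, 16, 16, 18, 16] = true := by decide +kernel
theorem c125 : eqW R 6 3 [20] [18, 18, 18, 16, 16, 16, 16, 16, 16, 16, 18, 16] = true := by decide +kernel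
theorem c126 : eqW R 9 3 [20] [18, 18, 18, 16, 16, 16, 16, 16, 16, 16, 18, 16] = true := by decide +kernel
theorem c127 : eqW R 12 3 [20] [18, 18, 18, 16, 16, 16, 16, 16, 16, 16, 18, 16] = true := by decide +kernel
theorem c128 : eqW R 15 2 [20] [18, 18, 18, 16, 16, 16, 16, 16, 16, 16, 18, 16] = true := by decide +kernel
theorem c129 : eqW R 0 3 [19] [17, 17, 17, 17, 17, 17, 17, 16, 16, 16, 16, 16, 16, 16, 17, 16] = true := by decide +kernel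
theorem c130 : eqW R 3 3 [19] [17, 17, 17, 17, 17, 17, 17, 16, 16, 16, 16, 16, 16, 16, 17, 16] = true := by decide +kernel
theorem c131 : eqW R 6 3 [19] [17, 17, 17, 17, 17, 17, 17, 16, 16, 16, 16, 16, 16, 16, 17, 16] = true := by decide +kernel
theorem c132 : eqW R 9 3 [19] [17, 17, 17, 17, 17, 17, 17, 16, 16, 16, 16, 16, 16, 16, 17, 16] = true := by decide +kernel
theorem c133 : eqW R 12 3 [19] [17, 17, 17, 17, 17, 17, 17, 16, 16, 16, 16, 16, 16, 16, 17, 16] = true := by decide +kernel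
theorem c134 : eqW R 15 2 [19] [17, 17, 17, 17, 17, 17, 17, 16, 16, 16, 16, 16, 16, 16, 17, 16] = true := by decide +kernel
theorem c135 : eqW R 0 3 [18] [8, 8, 8, 8, 8, 8, 9, 8, 9, 9, 9, 9, 8, 9, 9, 8, 8, 11, 10, 11, 11, 10, 11, 11, 10, 10, 11, 11, 10, 11, 11, 13, 12, 13] = true := by decide +kernel
theorem c136 : eqW R 3 3 [18] [8, 8, 8, 8, 8, 8, 9, 8, 9, 9, 9, 9, 8, 9, 9, 8, 8, 11, 10, 11, 11, 10, 11, 11, 10, 10, 11, 11, 10, 11, 11, 13, 12, 13] = true := by decide +kernel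
theorem c137 : eqW R 6 3 [18] [8, 8, 8, 8, 8, 8, 9, 8, 9, 9, 9, 9, 8, 9, 9, 8, 8, 11, 10, 11, 11, 10, 11, 11, 10, 10, 11, 11, 10, 11, 11, 13, 12, 13] = true := by decide +kernel
theorem c138 : eqW R 9 3 [18] [8, 8, 8, 8, 8, 8, 9, 8, 9, 9, 9, 9, 8, 9, 9, 8, 8, 11, 10, 11, 11, 10, 11, 11, 10, 10, 11, 11, 10, 11, 11, 13, 12, 13] = true := by decide +kernel
theorem c139 : eqW R 12 3 [18] [8, 8, 8, 8, 8, 8, 9, 8, 9, 9, 9, 9, 8, 9, 9, 8, 8, 11, 10, 11, 11, 10, 11, 11, 10, 10, 11, 11, 10, 11, 11, 13, 12, 13] = true := by decide +kernel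
theorem c140 : eqW R 15 2 [18] [8, 8, 8, 8, 8, 8, 9, 8, 9, 9, 9, 9, 8, 9, 9, 8, 8, 11, 10, 11, 11, 10, 11, 11, 10, 10, 11, 11, 10, 11, 11, 13, 12, 13] = true := by decide +kernel
theorem c141 : eqW R 0 3 [17] [8, 9, 8, 8, 9, 9, 8, 9, 9, 8, 9, 8, 9, 9, 9, 10, 11, 10, 11, 10, 10, 11, 11, 10, 11, 11, 10, 12, 13] = true := by decide +kernel
theorem c142 : eqW R 3 3 [17] [8, 9, 8, 8, 9, 9, 8, 9, 9, 8, 9, 8, 9, 9, 9, 10, 11, 10, 11, 10, 10, 11, 11, 10, 11, 11, 10, 12, 13] = true := by decide +kernel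
theorem c143 : eqW R 6 3 [17] [8, 9, 8, 8, 9, 9, 8, 9, 9, 8, 9, 8, 9, 9, 9, 10, 11, 10, 11, 10, 10, 11, 11, 10, 11, 11, 10, 12, 13] = true := by decide +kernel
theorem c144 : eqW R 9 3 [17] [8, 9, 8, 8, 9, 9, 8, 9, 9, 8, 9, 8, 9, 9, 9, 10, 11, 10, 11, 10, 10, 11, 11, 10, 11, 11, 10, 12, 13] = true := by decide +kernel
theorem c145 : eqW R 12 3 [17] [8, 9, 8, 8, 9, 9, 8, 9, 9, 8, 9, 8, 9, 9, 9, 10, 11, 10, 11, 10, 10, 11, 11, 10, 11, 11, 10, 12, 13] = true := by decide +kernel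
theorem c146 : eqW R 15 2 [17] [8, 9, 8, 8, 9, 9, 8, 9, 9, 8, 9, 8, 9, 9, 9, 10, 11, 10, 11, 10, 10, 11, 11, 10, 11, 11, 10, 12, 13] = true := by decide +kernel
theorem c147 : eqW R 0 3 [16] [9, 9, 9, 8, 8, 9, 8, 8, 9, 9, 8, 9, 9, 9, 8, 8, 8, 8, 8, 11, 11, 10, 10, 10, 10, 11, 11, 11, 11, 11, 10, 11, 11, 10, 12, 14, 14, 14, 14, 12] = true := by decide +kernel
theorem c148 : eqW R 3 3 [16] [9, 9, 9, 8, 8, 9, 8, 8, 9, 9, 8, 9, 9, 9, 8, 8, 8, 8, 8, 11, 11, 10, 10, 10, 10, 11, 11, 11, 11, 11, 10, 11, 11, 10, 12, 14, 14, 14, 14, 12] = true := by decide +kernel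
theorem c149 : eqW R 6 3 [16] [9, 9, 9, 8, 8, 9, 8, 8, 9, 9, 8, 9, 9, 9, 8, 8, 8, 8, 8, 11, 11, 10, 10, 10, 10, 11, 11, 11, 11, 11, 10, 11, 11, 10, 12, 14, 14, 14, 14, 12] = true := by decide +kernel
theorem c150 : eqW R 9 3 [16] [9, 9, 9, 8, 8, 9, 8, 8, 9, 9, 8, 9, 9, 9, 8, 8, 8, 8, 8, 11, 11, 10, 10, 10, 10, 11, 11, 11, 11, 11, 10, 11, 11, 10, 12, 14, 14, 14, 14, 12] = true := by decide +kernel
theorem c151 : eqW R 12 3 [16] [9, 9, 9, 8, 8, 9, 8, 8, 9, 9, 8, 9, 9, 9, 8, 8, 8, 8, 8, 11, 11, 10, 10, 10, 10, 11, 11, 11, 11, 11, 10, 11, 11, 10, 12, 14, 14, 14, 14, 12] = true := by decide +kernel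
theorem c152 : eqW R 15 2 [16] [9, 9, 9, 8, 8, 9, 8, 8, 9, 9, 8, 9, 9, 9, 8, 8, 8, 8, 8, 11, 11, 10, 10, 10, 10, 11, 11, 11, 11, 11, 10, 11, 11, 10, 12, 14, 14, 14, 14, 12] = true := by decide +kernel
end H0.QON
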