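import Cfsg.Agent.H0.QON.K0
set_option maxRecDepth 100000
set_option Elab.async false
namespace H0.QON
open H0 BN 
theorem defs_ok : DefsOK R.p defs 16 := (defsOK_cons (eq_of_bits R (eqb_step R (eqb_step R (eqb_step R (eqb_step R (eqb_step R (eqb_step R (eqb_zero R [16] [9, 9, 9, 8, 8, 9, 8, 8, 9, 9, 8, 9, 9, 9, 8, 8, 8, 8, 8, 11, 11, 10, 10, 10, 10, 11, 11, 11, 11, 11, 10, 11, 11, 10, 12, 14, 14, 14, 14, 12]) c147) c148) c149) c150) c151) c152)) (by decide) (defsOK_cons (eq_of_bits R (eqb_step R (eqb_step R (eqb_step R (eqb_step R (eqb_step R (eqb_step R (eqb_zero R [17] [8, 9, 8, 8, 9, 9, 8, 9, 9, 8, 9, 8, 9, 9, 9, 10, 11, 10, 11, 10, 10, 11, 11, 10, 11, 11, 10, 12, 13]) c141) c142) c143) c144) c145) c146)) (by decide) (defsOK_cons (eq_of_bits R (eqb_step R (eqb_step R (eqb_step R (eqb_step R (eqb_step R (eqb_step R (eqb_zero R [18] [8, 8, 8, 8, 8, 8, 9, 8, 9, 9, 9, 9, 8, 9, 9, 8, 8, 11, 10, 11, 11, 10, 11,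 11, 10, 10, 11, 11, 10, 11, 11, 13, 12, 13]) c135) c136) c137) c138) c139) c140)) (by decide) (defsOK_cons (eq_of_bits R (eqb_step R (eqb_step R (eqb_step R (eqb_step R (eqb_step R (eqb_step R (eqb_zero R [19] [17, 17, 17, 17, 17, 17, 17, 16, 16, 16, 16, 16, 16, 16, 17, 16]) c129) c130) c131) c132) c133) c134)) (by decide) (defsOK_cons (eq_of_bits R (eqb_step R (eqb_step R (eqb_step R (eqb_step R (eqb_step R (eqb_step R (eqb_zero R [20] [18, 18, 18, 16, 16, 16, 16, 16, 16, 16, 18, 16]) c123) c124) c125) c126) c127) c128)) (by decide) (defsOK_cons (eq_of_bits R (eqb_step R (eqb_step R (eqb_step R (eqb_step R (eqb_step R (eqb_step R (eqb_zero R [21] [19, 19, 19, 19, 19, 19, 19, 16, 16, 16, 16, 16, 16, 16, 19, 16]) c117) c118) c119) c120) c121) c122)) (by decide) (defsOK_cons (eq_of_bits R (eqb_step R (eqb_step R (eqb_step R (eqb_step R (eqb_step R (eqb_step R (eqb_zero R [22] [19, 19, 19, 19, 19, 19, 19, 17,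 17, 17, 17, 17, 17, 17, 19, 17]) c111) c112) c113) c114) c115) c116)) (by decide) (defsOK_cons (eq_of_bits R (eqb_step R (eqb_step R (eqb_step R (eqb_step R (eqb_step R (eqb_step R (eqb_zero R [23] [21, 16, 16, 16, 16, 16, 16, 16, 21, 16]) c105) c106) c107) c108) c109) c110)) (by decide) (defsOK_cons (eq_of_bits R (eqb_step R (eqb_step R (eqb_step R (eqb_step R (eqb_step R (eqb_step R (eqb_zero R [24] [23, 17, 17, 17, 17, 17, 17, 17, 23, 17]) c99) c100) c101) c102) c103) c104)) (by decide) (defsOK_cons (eq_of_bits R (eqb_step R (eqb_step R (eqb_step R (eqb_step R (eqb_step R (eqb_step R (eqb_zero R [25] [8, 8, 9, 9, 9, 8, 8, 8, 9, 8, 8, 8, 9, 9, 9, 11, 10, 10, 11, 11, 10, 10, 11, 10, 11, 11, 11, 11, 10, 12, 14, 14, 14]) c93) c94) c95) c96) c97) c98)) (by decide) (defsOK_cons (eq_of_bits R (eqb_step R (eqb_step R (eqb_step R (eqb_step R (eqb_step R (eqb_step R (eqb_zero R [26] [8, 9, 8, 8, 9, 9, 8, 8, 9, 8,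 8, 8, 9, 8, 9, 9, 9, 11, 10, 10, 11, 10, 10, 11, 11, 10, 12, 14, 14]) c87) c88) c89) c90) c91) c92)) (by decide) (defsOK_cons (eq_of_bits R (eqb_step R (eqb_step R (eqb_step R (eqb_step R (eqb_step R (eqb_step R (eqb_zero R [27] [9, 9, 9, 8, 8, 9, 9, 8, 9, 8, 9, 8, 8, 9, 9, 9, 8, 11, 11, 10, 10, 11, 10, 11, 11, 11, 11, 11, 10, 10, 11, 13, 14, 14, 14, 12]) c81) c82) c83) c84) c85) c86)) (by decide) (defsOK_cons (eq_of_bits R (eqb_step R (eqb_step R (eqb_step R (eqb_step R (eqb_step R (eqb_step R (eqb_zero R [28] [9, 8, 9, 8, 8, 9, 9, 8, 9, 8, 9, 8, 9, 9, 8, 8, 8, 10, 11, 10, 10, 10, 10, 11, 10, 10, 11, 10, 11, 10, 10, 10, 10, 14, 14, 13, 12, 13, 12]) c75) c76) c77) c78) c79) c80)) (by decide) (defsOK_cons (eq_of_bits R (eqb_step R (eqb_step R (eqb_step R (eqb_step R (eqb_step R (eqb_step R (eqb_zero R [29] [8, 8, 9, 8, 8, 8, 8, 9, 9, 8, 9, 9, 8, 9, 8, 8, 9, 8, 8, 10, 10, 11, 11, 10, 10, 10, 11, 11, 11, 11,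 10, 11, 13, 14, 13, 12]) c69) c70) c71) c72) c73) c74)) (by decide) (defsOK_cons (eq_of_bits R (eqb_step R (eqb_step R (eqb_step R (eqb_step R (eqb_step R (eqb_step R (eqb_zero R [30] [8, 9, 8, 8, 9, 8, 9, 8, 8, 8, 9, 9, 8, 8, 9, 8, 9, 9, 11, 10, 11, 10, 10, 11, 10, 10, 11, 10, 11, 10, 10, 11, 11, 10, 10, 10, 14, 14, 14, 13, 12, 13]) c63) c64) c65) c66) c67) c68)) (by decide) (defsOK_cons (eq_of_bits R (eqb_step R (eqb_step R (eqb_step R (eqb_step R (eqb_step R (eqb_step R (eqb_zero R [31] [8, 9, 8, 9, 8, 8, 8, 8, 8, 9, 8, 8, 9, 8, 8, 8, 8, 8, 11, 11, 10, 10, 11, 11, 11, 10, 10, 10, 10, 11, 10, 10, 12, 14, 14, 14, 14, 12]) c57) c58) c59) c60) c61) c62)) (by decide) (defsOK_cons (eq_of_bits R (eqb_step R (eqb_step R (eqb_step R (eqb_step R (eqb_step R (eqb_step R (eqb_zero R [32] [8, 9, 8, 9, 9, 8, 8, 9, 8, 8, 9, 9, 8, 8, 10, 11, 10, 10, 11, 10, 11, 10, 11, 10, 10, 10, 11, 11, 10, 10, 10, 14, 14, 14, 14, 12])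 c51) c52) c53) c54) c55) c56)) (by decide) (defsOK_cons (eq_of_bits R (eqb_step R (eqb_step R (eqb_step R (eqb_step R (eqb_step R (eqb_step R (eqb_zero R [33] [9, 8, 9, 8, 8, 8, 9, 9, 8, 9, 9, 9, 9, 11, 11, 10, 10, 10, 11, 10, 11, 10, 10, 10, 12, 14, 12, 13]) c45) c46) c47) c48) c49) c50)) (by decide) (defsOK_cons (eq_of_bits R (eqb_step R (eqb_step R (eqb_step R (eqb_step R (eqb_step R (eqb_step R (eqb_zero R [34] [10, 10, 10, 11, 10, 11, 10, 11, 10, 11, 11, 10, 10, 10, 10, 10, 14, 14, 14, 13]) c39) c40) c41) c42) c43) c44)) (by decide) (defsOK_cons (eq_of_bits R (eqb_step R (eqb_step R (eqb_step R (eqb_step R (eqb_step R (eqb_step R (eqb_zero R [35] [10, 11, 11, 10, 11, 10, 10, 10, 11, 10, 10, 10, 11, 10, 10, 13, 14, 12]) c33) c34) c35) c36) c37) c38)) (by decide) (defsOK_cons (eq_of_bits R (eqb_step R (eqb_step R (eqb_step R (eqb_step R (eqb_step R (eqb_step R (eqb_zero R [36] [35, 35, 35, 35, 35, 35, 34,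 34, 34, 34, 34, 34, 35, 34]) c27) c28) c29) c30) c31) c32)) (by decide) (defsOK_cons (eq_of_bits R (eqb_step R (eqb_step R (eqb_step R (eqb_step R (eqb_step R (eqb_step R (eqb_zero R [37] [11, 11, 10, 11, 10, 10, 10, 11, 10, 11, 11, 10, 10, 11, 14, 12]) c21) c22) c23) c24) c25) c26)) (by decide) (defsOK_nil _ _)))))))))))))))))))))))
universe u
variable {G : Type u} [Group G] [Finite G] (m0 : Model G) (h0 : m0.R = H0.MON.R)
noncomputable def m : Model G := m0.ext (lg := nat_lit 17) (N := nat_lit 131072) (l := H0.MON.nl) h0 nl nl_ok 16 rfl defs defs_ok (by decide +kernel)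
theorem mR : (m m0 h0).R = R := rfl
variable (hb : m0.pst [222, 1, 0] = ⊥) (hc : Nat.card G = 460815505920)
include h0 hb hc
theorem base : (m m0 h0).pst [222, 1, 0] = ⊥ := hb
omit hb hc in
theorem ch2_ok : (m m0 h0).ChainOK ch2 [] := ((m m0 h0).chain_cons [0, 1, 2, 3, 4, 5, 6, 7, 8] (Model.via _ (mR m0 h0) (fun R => Model.fixP R [] [[16], [17], [18], [19], [20], [21], [22], [23], [24]]) c0) (Model.via _ (mR m0 h0) (fun R => Model.growP R [[16], [17], [18], [19], [20], [21], [22], [23], [24]] [0, 1, 2, 3, 4, 5, 6, 7, 8] 0 512) c1) ((m m0 h0).chain_nil _))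
theorem pb2 : PBound G (2 ^ (0 + 1)) :=
  (m m0 h0).pbound C2 16 (k := 900030285) (K := 2) (e := 1) hc (lt_step_all (a := 57) (k := 10) (lt_step_all (a := 41) (k := 16) (lt_step_all (a := 18) (k := 23) (lt_step_all (a := 0) (k := 18) (lt_zero_all _) ((m m0 h0).rules_of (base m0 h0 hb hc) (Model.via _ (mR m0 h0) (fun R => rulesB R [222, 1, 0] (fun i => sh 16 (C2.L i)) (fun i => sh 16 (C2.R i)) 0 18) c2))) ((m m0 h0).rules_of (base m0 h0 hb hc) (Model.via _ (mR m0 h0) (fun R => rulesB R [222, 1, 0] (fun i => sh 16 (C2.L i)) (fun i => sh 16 (C2.R i)) 18 23) c3))) ((m m0 h0).rules_of (base m0 h0 hb hc) (Model.via _ (mR m0 h0) (fun R => rulesB R [222, 1, 0] (fun i => sh 16 (C2.L i)) (fun i => sh 16 (C2.R i)) 41 16) c4))) ((m m0 h0).rules_of (base m0 h0 hb hc) (Model.via _ (mR m0 h0) (fun R => rulesB R [222, 1, 0] (fun i => sh 16 (C2.L i)) (fun i => sh 16 (C2.R i)) 57 10) c5))) (ch2_ok m0 h0) (by decide +kernel)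 tests2 (all_take_done (all_take_step (all_take_zero _ tests2) (allL_spec c6)) (by decide +kernel))
    av2 FS2 YS2 rows2 (all_take_done (all_take_step (all_take_zero _ rows2) (allL_spec c7)) (by decide +kernel)) c8
omit hb hc in
theorem ch3_ok : (m m0 h0).ChainOK ch3 [] := ((m m0 h0).chain_cons [0, 1, 2, 3, 0, 1, 2, 3] (Model.via _ (mR m0 h0) (fun R => Model.fixP R [] [[28], [29], [30], [31]]) c9) (Model.via _ (mR m0 h0) (fun R => Model.growP R [[28], [29], [30], [31]] [0, 1, 2, 3, 0, 1, 2, 3] 0 81) c10) ((m m0 h0).chain_nil _))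
theorem pb3 : PBound G (3 ^ (1 + 1)) :=
  (m m0 h0).pbound C3 28 (k := 5689080320) (K := 3) (e := 2) hc (lt_step_all (a := 0) (k := 18) (lt_zero_all _) ((m m0 h0).rules_of (base m0 h0 hb hc) (Model.via _ (mR m0 h0) (fun R => rulesB R [222, 1, 0] (fun i => sh 28 (C3.L i)) (fun i => sh 28 (C3.R i)) 0 18) c11))) (ch3_ok m0 h0) (by decide +kernel) tests3 (all_take_done (all_take_step (all_take_zero _ tests3) (allL_spec c12)) (by decide +kernel))
    av3 FS3 YS3 rows3 (all_take_done (all_take_step (all_take_zero _ rows3) (allL_spec c13)) (by decide +kernel)) c14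
omit hb hc in
theorem ch7_ok : (m m0 h0).ChainOK ch7 [] := ((m m0 h0).chain_cons [0, 1, 2, 0, 1, 0, 1, 0, 1, 0, 1, 0, 1, 1, 0, 0, 1, 0] (Model.via _ (mR m0 h0) (fun R => Model.fixP R [] [[34], [35], [36]]) c15) (Model.via _ (mR m0 h0) (fun R => Model.growP R [[34], [35], [36]] [0, 1, 2, 0, 1, 0, 1, 0, 1, 0, 1, 0, 1, 1, 0, 0, 1, 0] 1 343) c16) ((m m0 h0).chain_nil _))
theorem pb7 : PBound G (7 ^ (0 + 1)) :=
  (m m0 h0).pbound C7 34 (k := 1343485440) (K := 2) (e := 1) hc (lt_step_all (a := 0) (k := 9) (lt_zero_all _) ((m m0 h0).rules_of (base m0 h0 hb hc) (Model.via _ (mR m0 h0) (fun R => rulesB R [222, 1, 0] (fun i => sh 34 (C7.L i)) (fun i => sh 34 (C7.R i)) 0 9) c17))) (ch7_ok m0 h0) (by decide +kernel) tests7 (all_take_done (all_take_step (all_take_zero _ tests7) (allL_spec c18)) (by decide +kernel))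
    av7 FS7 YS7 rows7 (all_take_done (all_take_step (all_take_zero _ rows7) (allL_spec c19)) (by decide +kernel)) c20
theorem bound (Γ : Type u) [Group Γ] [Finite Γ] (σ : Γ →* G) (hσ : Cfsg.IsStemExtension σ) : Nat.card σ.ker ∣ 3 :=
  card_ker_dvd (M := 31) (k := 9) (L := [2, 3, 7]) hc (by decide +kernel) (ex_bound (pb2 m0 h0 hb hc) (by decide) (ex_bound (pb3 m0 h0 hb hc) (by decide) (ex_bound (pb7 m0 h0 hb hc) (by decide) ex_bound_nil))) Γ σ hσ
end H0.QON
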